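import Cfsg.Agent.H122.Pw.Corner

/-!
# Corners of matrices of determinant `-1` (helper122, S2464, `E_8(3)`)

* `Dg` : conjugation by a diagonal sign matrix;
* `exists_cornerD` : the twisted form of `Cor.exists_corner`.
-/

set_option autoImplicit false

namespace Cfsg.Agent.H122.SX.CD

open Matrix Cfsg.Agent.H122.Pw.Cor

variable {K : Type*} [Field K]

/-- conjugation by a diagonal matrix of order two -/
def Dg {ι : Type*} [Fintype ι] [DecidableEq ι] (σ : ι → K) (hσ : ∀ i, σ i * σ i = 1) :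
    SpecialLinearGroup ι K →* SpecialLinearGroup ι K where
  toFun A := ⟨diagonal σ * A.1 * diagonal σ, by
    have h1 : (diagonal σ).det * (diagonal σ).det = 1 := by
      rw [← det_mul, diagonal_mul_diagonal]
      simp only [hσ]
      rw [diagonal_one, det_one]
    rw [det_mul, det_mul, A.2, mul_one, h1]⟩
  map_one' := by
    apply Subtype.ext
    change diagonal σ * 1 * diagonal σ = 1
    rw [Matrix.mul_one, diagonal_mul_diagonal]
    simp only [hσ]
    exact diagonal_one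
  map_mul' A B := by
    apply Subtype.ext
    change diagonal σ * (A.1 * B.1) * diagonal σ = (diagonal σ * A.1 * diagonal σ) * (diagonal σ * B.1 * diagonal σ)
    have h1 : diagonal σ * diagonal σ = 1 := by
      rw [diagonal_mul_diagonal]
      simp only [hσ]
      exact diagonal_one
    calc diagonal σ * (A.1 * B.1) * diagonal σ = diagonal σ * A.1 * 1 * B.1 * diagonal σ := by
          rw [Matrix.mul_one]; simp only [Matrix.mul_assoc]
      _ = _ := by rw [← h1]; simp only [Matrix.mul_assoc]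

section

variable {ι : Type*} [Fintype ι] [DecidableEq ι] {σ : ι → K} (hσ : ∀ i, σ i * σ i = 1)

theorem Dg_val (A : SpecialLinearGroup ι K) : (Dg σ hσ A).1 = diagonal σ * A.1 * diagonal σ := rfl

theorem Dg_apply (A : SpecialLinearGroup ι K) (i j : ι) : (Dg σ hσ A).1 i j = σ i * A.1 i j * σ j := by
  rw [Dg_val, Matrix.mul_diagonal, Matrix.diagonal_mul]

end

/-- the signs on the two blocks -/
def sg (τ : Fin 4 → K) : Fin 4 ⊕ Fin 4 → K := Sum.elim τ 1

theorem sg_sq {τ : Fin 4 → K} (hτ : ∀ i, τ i * τ i = 1) (i : Fin 4 ⊕ Fin 4) : sg τ i * sg τ i = 1 := by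
  rcases i with i | i
  · exact hτ i
  · exact one_mul 1

theorem diag_sg (τ : Fin 4 → K) : diagonal (sg τ) = fromBlocks (diagonal τ) 0 0 1 := by
  rw [sg, ← diagonal_one, fromBlocks_diagonal]
  rfl

theorem conj_low {N : Matrix (Fin 4 ⊕ Fin 4) (Fin 4 ⊕ Fin 4) K} {A B G E : Matrix (Fin 4) (Fin 4) K}
    (hN : N = fromBlocks A B G E) (Z : Matrix (Fin 4) (Fin 4) K) :
    ∃ A' B' G', (low Z).1 * N * ((low Z)⁻¹).1 = fromBlocks A' B' G' (E + Z * B) := by
  refine ⟨A - B * Z, B, (Z * A + G) - (Z * B + E) * Z, ?_⟩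
  rw [low_inv]
  rw [coe_low, coe_low, hN, Matrix.fromBlocks_multiply, Matrix.fromBlocks_multiply]
  simp only [Matrix.one_mul, Matrix.mul_one, Matrix.zero_mul, Matrix.mul_zero, add_zero, zero_add, Matrix.mul_neg]
  congr 1
  · abel
  · abel
  · abel

theorem conj_up {N : Matrix (Fin 4 ⊕ Fin 4) (Fin 4 ⊕ Fin 4) K} {A B G E : Matrix (Fin 4) (Fin 4) K}
    (hN : N = fromBlocks A B G E) (Y : Matrix (Fin 4) (Fin 4) K) :
    (up Y).1 * N * ((up Y)⁻¹).1 = fromBlocks (A + Y * G) (B + Y * E - (A + Y * G) * Y) G (E - G * Y) := by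
  rw [up_inv]
  rw [coe_up, coe_up, hN, Matrix.fromBlocks_multiply, Matrix.fromBlocks_multiply]
  simp only [Matrix.one_mul, Matrix.mul_one, Matrix.zero_mul, Matrix.mul_zero, add_zero, zero_add, Matrix.mul_neg]
  congr 1
  · abel
  · abel

theorem case_B (h2 : (2 : K) ≠ 0) {N : Matrix (Fin 4 ⊕ Fin 4) (Fin 4 ⊕ Fin 4) K} {A B G : Matrix (Fin 4) (Fin 4) K}
    {x y : Fin 4 → K} (hx : x ≠ 0) (hy : y ≠ 0) (hd : y ⬝ᵥ x = 0) (hN : N = fromBlocks A B G (1 + vecMulVec x y))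
    (hB : B ≠ 0) : ∃ (S : SpecialLinearGroup (Fin 4 ⊕ Fin 4) K) (A' B' G' E' : Matrix (Fin 4) (Fin 4) K),
      S.1 * N * (S⁻¹).1 = fromBlocks A' B' G' E' ∧ E'.det = 1 ∧ Gd E' := by
  obtain ⟨i, hi⟩ : ∃ i, B i ≠ 0 := Function.ne_iff.1 hB
  obtain ⟨z, h3, h4⟩ := exists_row h2 hx hy hd hi
  have h5 : vecMulVec z (Pi.single i 1) * B = vecMulVec z (B i) := by
    rw [Matrix.vecMulVec_mul, Matrix.single_one_vecMul]
    rfl
  obtain ⟨A', B', G', h6⟩ := conj_low hN (vecMulVec z (Pi.single i 1))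
  rw [h5] at h6
  exact ⟨_, A', B', G', _, h6, h3, h4⟩

theorem exists_conj (h2 : (2 : K) ≠ 0) {N : Matrix (Fin 4 ⊕ Fin 4) (Fin 4 ⊕ Fin 4) K} {A B G E : Matrix (Fin 4) (Fin 4) K}
    (hN : N = fromBlocks A B G E) (hE : E.det = 1) (hE' : E ≠ -1) :
    ∃ (S : SpecialLinearGroup (Fin 4 ⊕ Fin 4) K) (A' B' G' E' : Matrix (Fin 4) (Fin 4) K),
      S.1 * N * (S⁻¹).1 = fromBlocks A' B' G' E' ∧ E'.det = 1 ∧ Gd E' := by
  by_cases hg : Gd E
  · refine ⟨1, A, B, G, E, ?_, hE, hg⟩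
    rw [inv_one]
    change 1 * N * 1 = _
    rw [Matrix.one_mul, Matrix.mul_one]
    exact hN
  rw [Gd] at hg
  push Not at hg
  obtain ⟨x, y, rfl, h1⟩ := hg hE'
  have hx : x ≠ 0 := by
    rintro rfl
    exact h1 (by rw [Matrix.zero_vecMulVec, add_zero])
  have hy : y ≠ 0 := by
    rintro rfl
    exact h1 (by rw [Matrix.vecMulVec_zero, add_zero])
  have hd := dot_of_det hE
  by_cases hB : B = 0
  · by_cases hG : G = 0
    · subst hB hG
      obtain ⟨Y, hY⟩ : ∃ Y : Matrix (Fin 4) (Fin 4) K, Y * (1 + vecMulVec x y) - A * Y ≠ 0 := by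
        by_contra hcon
        push Not at hcon
        have h3 := hcon 1
        rw [Matrix.one_mul, Matrix.mul_one, sub_eq_zero] at h3
        obtain ⟨i, hi⟩ := Function.ne_iff.1 hx
        obtain ⟨j, hj⟩ := Function.ne_iff.1 hy
        rw [Pi.zero_apply] at hi hj
        have h4 := fun Y => hcon Y
        rw [← h3] at h4
        have h5 : ∀ Y : Matrix (Fin 4) (Fin 4) K, Y * vecMulVec x y = vecMulVec x y * Y := by
          intro Y
          have := h4 Y
          rw [Matrix.mul_add, Matrix.add_mul, Matrix.mul_one, Matrix.one_mul, add_sub_add_left_eq_sub, sub_eq_zero] at this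
          exact this
        have h6 : ∀ Y : Matrix (Fin 4) (Fin 4) K, ∀ k l, (Y *ᵥ x) k * y l = x k * (y ᵥ* Y) l := by
          intro Y k l
          have := congrFun (congrFun (h5 Y) k) l
          rw [Matrix.mul_vecMulVec, Matrix.vecMulVec_mul, vecMulVec_apply, vecMulVec_apply] at this
          exact this
        have h7 : ∀ a b : Fin 4 → K, ∀ k l, (b ⬝ᵥ x) * a k * y l = x k * ((y ⬝ᵥ a) * b l) := by
          intro a b k l
          have := h6 (vecMulVec a b) k l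
          rw [vecMulVec_mulVec, vecMul_vecMulVec] at this
          simpa [mul_comm, mul_left_comm, mul_assoc] using this
        have h8 := h7 x (Pi.single i 1) i j
        rw [hd, zero_mul, mul_zero, single_dotProduct, one_mul] at h8
        exact (mul_ne_zero (mul_ne_zero hi hi) hj) h8
      have h3 := conj_up hN Y
      rw [Matrix.mul_zero, add_zero, Matrix.zero_mul, sub_zero, zero_add] at h3
      obtain ⟨S, A', B', G', E', h4, h5, h6⟩ := case_B h2 hx hy hd h3 hY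
      refine ⟨S * up Y, A', B', G', E', ?_, h5, h6⟩
      rw [_root_.mul_inv_rev]
      change S.1 * (up Y).1 * N * (((up Y)⁻¹).1 * (S⁻¹).1) = _
      rw [← h4]
      simp only [Matrix.mul_assoc]
    · obtain ⟨i, hi⟩ : ∃ i, Gᵀ i ≠ 0 := by
        refine Function.ne_iff.1 fun h => hG ?_
        have h' : Gᵀ = 0 := h
        rw [← Matrix.transpose_transpose G, h', Matrix.transpose_zero]
      obtain ⟨z, h3, h4⟩ := exists_col h2 hx hy hd hi
      have h5 : G * vecMulVec (Pi.single i 1) z = vecMulVec (Gᵀ i) z := by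
        rw [Matrix.mul_vecMulVec, Matrix.mulVec_single_one]
        rfl
      have h6 := conj_up hN (-vecMulVec (Pi.single i 1) z)
      rw [Matrix.mul_neg G, h5, sub_neg_eq_add] at h6
      exact ⟨_, _, _, _, _, h6, h3, h4⟩
  · exact case_B h2 hx hy hd hN hB

/-- the decomposition -/
theorem decD {N : Matrix (Fin 4 ⊕ Fin 4) (Fin 4 ⊕ Fin 4) K} {A B G : Matrix (Fin 4) (Fin 4) K}
    {e : SpecialLinearGroup (Fin 4) K} (hN : N = fromBlocks A B G e.1) :
    ∃ Z Y c, N = (up Y).1 * fromBlocks c 0 0 e.1 * (low Z).1 ∧ c.det = N.det := by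
  have he : (e⁻¹).1 * e.1 = 1 := by
    change (e⁻¹ * e).1 = 1
    rw [inv_mul_cancel]; rfl
  have he' : e.1 * (e⁻¹).1 = 1 := by
    change (e * e⁻¹).1 = 1
    rw [mul_inv_cancel]; rfl
  have hmat : N = fromBlocks 1 (B * (e⁻¹).1) 0 1 * fromBlocks (A - B * (e⁻¹).1 * G) 0 0 e.1 *
      fromBlocks 1 0 ((e⁻¹).1 * G) 1 := by
    rw [hN, Matrix.fromBlocks_multiply, Matrix.fromBlocks_multiply]
    simp only [Matrix.one_mul, Matrix.mul_one, Matrix.zero_mul, Matrix.mul_zero, add_zero, zero_add]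
    have hBe : B * (e⁻¹).1 * e.1 = B := by rw [Matrix.mul_assoc, he, Matrix.mul_one]
    congr 1
    · rw [hBe, ← Matrix.mul_assoc B]
      abel
    · rw [hBe]
    · rw [← Matrix.mul_assoc, he', Matrix.one_mul]
  have hdet : (A - B * (e⁻¹).1 * G).det = N.det := by
    have h1 := congrArg Matrix.det hmat
    rw [Matrix.det_mul, Matrix.det_mul, Matrix.det_fromBlocks_zero₂₁, Matrix.det_fromBlocks_zero₂₁,
      Matrix.det_fromBlocks_zero₁₂, Matrix.det_one, e.2] at h1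
    simp only [mul_one, one_mul] at h1
    exact h1.symm
  exact ⟨(e⁻¹).1 * G, B * (e⁻¹).1, _, hmat, hdet⟩

/-- **The corner, twisted form.** -/
theorem exists_cornerD (h2 : (2 : K) ≠ 0) {τ : Fin 4 → K} (hτ : ∀ i, τ i * τ i = 1)
    (M : SpecialLinearGroup (Fin 4 ⊕ Fin 4) K)
    (hE : ((M⁻¹).1.toBlocks₂₂).det = 1) (hE' : (M⁻¹).1.toBlocks₂₂ ≠ -1) :
    ∃ (S : SpecialLinearGroup (Fin 4 ⊕ Fin 4) K) (Z Y : Matrix (Fin 4) (Fin 4) K) (c d : SpecialLinearGroup (Fin 4) K),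
      S * M * (Dg (sg τ) (sg_sq hτ) S)⁻¹ = (low Z)⁻¹ * (dL c * dR d) * (Dg (sg τ) (sg_sq hτ) (up Y))⁻¹ ∧ Gd d.1 := by
  obtain ⟨δ, hδ⟩ : ∃ δ : Matrix (Fin 4 ⊕ Fin 4) (Fin 4 ⊕ Fin 4) K, δ = diagonal (sg τ) := ⟨_, rfl⟩
  have hδ2 : δ * δ = 1 := by
    rw [hδ, diagonal_mul_diagonal]
    simp only [sg_sq hτ]
    exact diagonal_one
  have hN : δ * (M⁻¹).1 = fromBlocks (diagonal τ * (M⁻¹).1.toBlocks₁₁) (diagonal τ * (M⁻¹).1.toBlocks₁₂)
      (M⁻¹).1.toBlocks₂₁ (M⁻¹).1.toBlocks₂₂ := by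
    conv_lhs => rw [← Matrix.fromBlocks_toBlocks (M⁻¹).1]
    rw [hδ, diag_sg, Matrix.fromBlocks_multiply]
    simp
  obtain ⟨S, A', B', G', E', h1, h3, h4⟩ := exists_conj h2 hN hE hE'
  obtain ⟨e, rfl⟩ : ∃ e : SpecialLinearGroup (Fin 4) K, e.1 = E' := ⟨⟨E', h3⟩, rfl⟩
  obtain ⟨Z, Y, c', h5, h6⟩ := decD h1
  have hdet : c'.det = (diagonal τ).det := by
    rw [h6, det_mul, det_mul, det_mul, S.2, (S⁻¹).2, (M⁻¹).2, hδ, diag_sg, Matrix.det_fromBlocks_zero₂₁, Matrix.det_one]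
    simp only [mul_one, one_mul]
  have hτd : (diagonal τ).det * (diagonal τ).det = 1 := by
    rw [← det_mul, diagonal_mul_diagonal]
    simp only [hτ]
    rw [diagonal_one, det_one]
  obtain ⟨c, hc⟩ : ∃ c : SpecialLinearGroup (Fin 4) K, c.1 = diagonal τ * c' :=
    ⟨⟨diagonal τ * c', by rw [det_mul, hdet, hτd]⟩, rfl⟩
  have key : Dg (sg τ) (sg_sq hτ) S * M⁻¹ * S⁻¹ = Dg (sg τ) (sg_sq hτ) (up Y) * (dL c * dR e) * low Z := by
    apply Subtype.ext
    change diagonal (sg τ) * S.1 * diagonal (sg τ) * (M⁻¹).1 * (S⁻¹).1 =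
      diagonal (sg τ) * (up Y).1 * diagonal (sg τ) * ((dL c).1 * (dR e).1) * (low Z).1
    rw [← hδ]
    have h7 : δ * fromBlocks c' 0 0 e.1 = (dL c).1 * (dR e).1 := by
      rw [coe_dL, coe_dR, hc, hδ, diag_sg, Matrix.fromBlocks_multiply, Matrix.fromBlocks_multiply]
      simp
    calc δ * S.1 * δ * (M⁻¹).1 * (S⁻¹).1 = δ * (S.1 * (δ * (M⁻¹).1) * (S⁻¹).1) := by simp only [Matrix.mul_assoc]
      _ = δ * ((up Y).1 * 1 * fromBlocks c' 0 0 e.1 * (low Z).1) := by rw [h5, Matrix.mul_one]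
      _ = δ * (up Y).1 * δ * (δ * fromBlocks c' 0 0 e.1) * (low Z).1 := by
        rw [← hδ2]; simp only [Matrix.mul_assoc]
      _ = _ := by rw [h7]
  refine ⟨S, Z, Y, c⁻¹, e⁻¹, ?_, gd_inv h4⟩
  have h8 := congrArg (fun x => x⁻¹) key
  simp only [_root_.mul_inv_rev, inv_inv] at h8
  rw [← mul_assoc] at h8
  rw [h8, map_inv, map_inv, ← _root_.mul_inv_rev (dR e), ← commute_dd, _root_.mul_inv_rev]
  simp only [mul_assoc]

end Cfsg.Agent.H122.SX.CD
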