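import Cfsg.Agent.H122.SX.ETwo85
import Cfsg.Agent.H122.Pw.EightThree
import Cfsg.Agent.H494.TC.Base
import Cfsg.Agent.H422.TW.LemB

/-!
# `E₈(2)` : every `g ≠ 1` is a product of two elements of ONE class of order `127` (helper122, S2452, idea of helper207)

The Levi subgroups of type `A₇` (all nodes but `2`) and `A₆ A₁` (all nodes but `3`): a conjugation in `SL_8(2)` makes the
`A₁` part of the Gauss decomposition EXACTLY `1`; the `A₆` part is a product of two elements of order `127`.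
-/

set_option autoImplicit false
set_option linter.unusedSectionVars false

namespace Cfsg.Agent.H122.SX.E127

open CoxeterSystem Cfsg.Agent.ChevalleyStructure.CoxeterGeom Cfsg.Agent.Tits.Roots Cfsg.Agent.Tits.Core
  Cfsg.Agent.Nodes.Reps Cfsg.Agent.Nodes.BNOf Cfsg.Agent.Nodes.RGDLib Cfsg.Agent.Nodes.Bruhat
  Cfsg.Agent.Nodes.OppDec Cfsg.Agent.Nodes.LeviDec Cfsg.Agent.Nodes.KindChev Cfsg.Agent.Nodes.ChevCls
  Cfsg.Agent.OddHalf.NI.ModelChev Cfsg.Agent.Nodes.StabComb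
  Cfsg.Agent.H162.GaussDec Cfsg.Agent.H162.GaussLevi Cfsg.Agent.H162.GaussSL Cfsg.Agent.H162.GaussReg
  Cfsg.Agent.H162.GaussPQ
  Cfsg.Agent.H928.Ore.Frame
open Cfsg.Lie Cfsg.Agent.ChevalleyStructure Cfsg.Agent.ChevalleyStructure.Elts
  Cfsg.Agent.ChevalleyStructure.RootVec Cfsg.Agent.ChevalleyStructure.NPerm
  Cfsg.Agent.ChevalleyStructure.CoxeterGeomTypes Cfsg.Agent.Nodes.RGDChev Cfsg.Agent.KFacts.RgdChevCoord
open Cfsg.Agent.FixBN.FieldRGD (uu vv dd ww)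
open Cfsg.Agent.TitsThree.KExcRT Cfsg.Agent.AGraded
open Cfsg.Agent.H78.Pw Cfsg.Agent.H85.Pw Cfsg.Agent.H194.Pw
open Cfsg.Agent.H150.E6T (le_of_gen)
open Cfsg.Agent.H162.GaussExc (coord)
open Cfsg.Agent.H122.Pw
open scoped MatrixGroups

universe u

/-! ### The table of type `A₆` -/

/-- nodes `2, 4, 5, 6, 7, 8` -/
def r7 : Fin 7 → Fin 7 → ℕ :=
  ![![0, 141, 142, 143, 144, 145, 146], ![98, 0, 130, 131, 132, 133, 134], ![97, 109, 0, 126, 127, 128, 129],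
    ![96, 108, 113, 0, 123, 124, 125], ![95, 107, 112, 116, 0, 121, 122], ![94, 106, 111, 115, 118, 0, 120],
    ![93, 105, 110, 114, 117, 119, 0]]

/-- signs -/
def s7 : Fin 7 → Fin 7 → ℤ :=
  ![![1, 1, -1, 1, -1, 1, -1], ![1, 1, 1, -1, 1, -1, 1], ![-1, 1, 1, 1, -1, 1, -1], ![1, -1, 1, 1, 1, -1, 1],
    ![-1, 1, -1, 1, 1, 1, -1], ![1, -1, 1, -1, 1, 1, 1], ![-1, 1, -1, 1, -1, 1, 1]]

/-- nodes -/
def j7 : Fin 6 → Fin 8 := ![1, 3, 4, 5, 6, 7]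

theorem rt7 : RTa chevE8 r7 ∧ RTb chevE8 r7 s7 ∧ RTc chevE8 r7 ∧ RTd s7 ∧ (∀ i j, s7 j i = s7 i j) ∧
    ∀ i j, i ≠ j → r7 j i = chevE8.neg (r7 i j) := by decide +kernel

theorem sim7 : (∀ a : Fin 6, r7 a.castSucc a.succ = chevE8.simple (j7 a)) ∧
    ∀ a : Fin 6, r7 a.succ a.castSucc = chevE8.neg (chevE8.simple (j7 a)) := by decide +kernel

/-- all nodes but `3` -/
def J6 : List (Fin 8) := [0, 1, 3, 4, 5, 6, 7]

theorem r7J : ∀ a b : Fin 7, a ≠ b → ∀ k : Fin 8, k ∉ J6 → vec chevE8 8 (r7 a b) k = 0 := by decide +kernel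

/-- the splitting of the indices -/
def e26 : Fin 2 ⊕ Fin 6 ≃ Fin 8 := finSumFinEquiv

/-- a root of the block -/
def R7 (q : ℕ) : Prop := ∃ a b : Fin 7, a ≠ b ∧ r7 a b = q

instance decR7 (q : ℕ) : Decidable (R7 q) := by
  unfold R7
  refine @Fintype.decidableExistsFintype _ _ (fun a => ?_) _
  refine @Fintype.decidableExistsFintype _ _ (fun b => ?_) _
  infer_instance

theorem out6n : ∀ q < chevE8.nroots, (∃ k : Fin 8, k ∉ J7 ∧ vec chevE8 8 q k < 0) →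
    (∃ k : Fin 8, k ∉ J6 ∧ vec chevE8 8 q k < 0) ∨ R7 q := by
  intro q hq
  revert q
  refine @of_decide_eq_true _ ?_ ?_
  · refine @Nat.decidableBallLT _ _ fun q _ => ?_
    infer_instance
  · decide +kernel

theorem out6p : ∀ q < chevE8.nroots, (∃ k : Fin 8, k ∉ J7 ∧ 0 < vec chevE8 8 q k) →
    (∃ k : Fin 8, k ∉ J6 ∧ 0 < vec chevE8 8 q k) ∨ R7 q := by
  intro q hq
  revert q
  refine @of_decide_eq_true _ ?_ ?_
  · refine @Nat.decidableBallLT _ _ fun q _ => ?_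
    infer_instance
  · decide +kernel

theorem r8_R7 : ∀ a b : Fin 6, a ≠ b → R7 (r8 (e26 (Sum.inr a)) (e26 (Sum.inr b))) := by decide +kernel

theorem r8_low6 : ∀ (a : Fin 6) (b : Fin 2), vec chevE8 8 (r8 (e26 (Sum.inr a)) (e26 (Sum.inl b))) 2 < 0 := by
  decide +kernel

theorem r8_up6 : ∀ (a : Fin 2) (b : Fin 6), 0 < vec chevE8 8 (r8 (e26 (Sum.inl a)) (e26 (Sum.inr b))) 2 := by
  decide +kernel

theorem not2 : (2 : Fin 8) ∉ J6 := by decide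

/-- the exponent of a root -/
def ex127 (q : ℕ) : ℤ := ∑ b : Fin 7, (2 : ℤ) ^ (b : ℕ) * H482.Ore.Fix.wt chevE8 j7 q b

theorem ex127_ne : ∀ q < chevE8.nroots, (∃ k : Fin 8, k ∉ J6 ∧ vec chevE8 8 q k ≠ 0) → ex127 q % 127 ≠ 0 := by
  intro q hq
  revert q
  refine @of_decide_eq_true _ ?_ ?_
  · refine @Nat.decidableBallLT _ _ fun q _ => ?_
    infer_instance
  · decide +kernel

theorem ne_one_127 {K' : Type*} [Field K'] {z : K'} (hz : orderOf z = 127) (hz0 : z ≠ 0) {q : ℕ} (hq : q < chevE8.nroots)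
    (hk : ∃ k : Fin 8, k ∉ J6 ∧ vec chevE8 8 q k ≠ 0) :
    ∏ b : Fin 7, (z ^ (2 ^ (b : ℕ))) ^ H482.Ore.Fix.wt chevE8 j7 q b ≠ 1 := by
  have h1 : ∀ b : Fin 7, (z ^ (2 ^ (b : ℕ))) ^ H482.Ore.Fix.wt chevE8 j7 q b =
      z ^ ((2 : ℤ) ^ (b : ℕ) * H482.Ore.Fix.wt chevE8 j7 q b) := by
    intro b
    rw [← zpow_natCast, ← zpow_mul]
    push_cast
    rfl
  rw [Finset.prod_congr rfl fun b _ => h1 b, Cfsg.Agent.H85.Ore.prod_zpow' hz0]
  intro h2
  refine ex127_ne q hq hk (Int.emod_eq_zero_of_dvd ?_)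
  obtain ⟨u, rfl⟩ : ∃ u : K'ˣ, (u : K') = z := ⟨Units.mk0 z hz0, rfl⟩
  have h3 : u ^ (ex127 q) = 1 := by
    apply Units.ext
    rw [Units.val_zpow_eq_zpow_val, Units.val_one]
    exact h2
  have h4 := orderOf_dvd_iff_zpow_eq_one.2 h3
  rw [← orderOf_units, hz] at h4
  exact_mod_cast h4

/-! ### Block matrices -/

section blocks

open Matrix

variable {K : Type*} [Field K]

/-- lower block unipotent -/
def low (Z : Matrix (Fin 6) (Fin 2) K) : SpecialLinearGroup (Fin 2 ⊕ Fin 6) K :=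
  ⟨fromBlocks 1 0 Z 1, by rw [Matrix.det_fromBlocks_zero₁₂, Matrix.det_one, Matrix.det_one, mul_one]⟩

/-- upper block unipotent -/
def up (Y : Matrix (Fin 2) (Fin 6) K) : SpecialLinearGroup (Fin 2 ⊕ Fin 6) K :=
  ⟨fromBlocks 1 Y 0 1, by rw [Matrix.det_fromBlocks_zero₂₁, Matrix.det_one, Matrix.det_one, mul_one]⟩

/-- second block -/
def dR : SpecialLinearGroup (Fin 6) K →* SpecialLinearGroup (Fin 2 ⊕ Fin 6) K where
  toFun A := ⟨fromBlocks 1 0 0 A.1, by rw [Matrix.det_fromBlocks_zero₂₁, Matrix.det_one, one_mul]; exact A.2⟩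
  map_one' := by
    apply Subtype.ext
    change fromBlocks 1 0 0 (1 : Matrix (Fin 6) (Fin 6) K) = 1
    exact Matrix.fromBlocks_one
  map_mul' A B := by
    apply Subtype.ext
    change fromBlocks 1 0 0 (A.1 * B.1) = fromBlocks 1 0 0 A.1 * fromBlocks 1 0 0 B.1
    rw [Matrix.fromBlocks_multiply]
    simp

theorem coe_low (Z : Matrix (Fin 6) (Fin 2) K) : (low Z).1 = fromBlocks 1 0 Z 1 := rfl
theorem coe_up (Y : Matrix (Fin 2) (Fin 6) K) : (up Y).1 = fromBlocks 1 Y 0 1 := rfl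
theorem coe_dR (A : SpecialLinearGroup (Fin 6) K) : (dR A).1 = fromBlocks 1 0 0 A.1 := rfl

theorem low_add (Z Z' : Matrix (Fin 6) (Fin 2) K) : low Z * low Z' = low (Z + Z') := by
  apply Subtype.ext
  change (low Z).1 * (low Z').1 = (low (Z + Z')).1
  rw [coe_low, coe_low, coe_low, Matrix.fromBlocks_multiply]
  simp

theorem up_add (Z Z' : Matrix (Fin 2) (Fin 6) K) : up Z * up Z' = up (Z + Z') := by
  apply Subtype.ext
  change (up Z).1 * (up Z').1 = (up (Z + Z')).1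
  rw [coe_up, coe_up, coe_up, Matrix.fromBlocks_multiply]
  simp [add_comm]

theorem low_zero : low (0 : Matrix (Fin 6) (Fin 2) K) = 1 := by
  apply Subtype.ext
  change (low 0).1 = 1
  rw [coe_low, Matrix.fromBlocks_one]

theorem up_zero : up (0 : Matrix (Fin 2) (Fin 6) K) = 1 := by
  apply Subtype.ext
  change (up 0).1 = 1
  rw [coe_up, Matrix.fromBlocks_one]

/-- the decomposition -/
theorem dec {N : SpecialLinearGroup (Fin 2 ⊕ Fin 6) K} (hN : N.1.toBlocks₁₁ = 1) :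
    ∃ Z Y c, N = low Z * dR c * up Y := by
  obtain ⟨B, hB⟩ : ∃ B, B = N.1.toBlocks₁₂ := ⟨_, rfl⟩
  obtain ⟨G, hG⟩ : ∃ G, G = N.1.toBlocks₂₁ := ⟨_, rfl⟩
  obtain ⟨E, hE⟩ : ∃ E, E = N.1.toBlocks₂₂ := ⟨_, rfl⟩
  have h1 : N.1 = fromBlocks 1 B G E := by
    rw [hB, hG, hE, ← hN, Matrix.fromBlocks_toBlocks]
  have hmat : N.1 = fromBlocks 1 0 G 1 * fromBlocks 1 0 0 (E - G * B) * fromBlocks 1 B 0 1 := by
    rw [h1, Matrix.fromBlocks_multiply, Matrix.fromBlocks_multiply]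
    simp
  have hdet : (E - G * B).det = 1 := by
    have h2 := congrArg Matrix.det hmat
    rw [Matrix.det_mul, Matrix.det_mul, Matrix.det_fromBlocks_zero₂₁, Matrix.det_fromBlocks_zero₂₁,
      Matrix.det_fromBlocks_zero₁₂, Matrix.det_one, Matrix.det_one, N.2] at h2
    simp only [mul_one, one_mul] at h2
    exact h2.symm
  exact ⟨G, B, ⟨_, hdet⟩, Subtype.ext hmat⟩

theorem dR_tv {a b : Fin 6} (hab : a ≠ b) (c : K) : dR (Matrix.SpecialLinearGroup.transvection hab c) =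
    Matrix.SpecialLinearGroup.transvection (Sum.inr_injective.ne hab : (Sum.inr a : Fin 2 ⊕ Fin 6) ≠ Sum.inr b) c := by
  apply Subtype.ext
  change Matrix.fromBlocks 1 0 0 (Matrix.transvection a b c) = Matrix.transvection (Sum.inr a) (Sum.inr b) c
  ext i j
  rcases i with i | i <;> rcases j with j | j <;>
    simp [Matrix.transvection, Matrix.one_apply, Matrix.single_apply]

theorem low_single (a : Fin 6) (b : Fin 2) (c : K) : low (Matrix.single a b c) =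
    Matrix.SpecialLinearGroup.transvection (Sum.inr_ne_inl : (Sum.inr a : Fin 2 ⊕ Fin 6) ≠ Sum.inl b) c := by
  apply Subtype.ext
  change Matrix.fromBlocks 1 0 (Matrix.single a b c) 1 = Matrix.transvection (Sum.inr a) (Sum.inl b) c
  ext i j
  rcases i with i | i <;> rcases j with j | j <;>
    simp [Matrix.transvection, Matrix.one_apply, Matrix.single_apply]

theorem up_single (a : Fin 2) (b : Fin 6) (c : K) : up (Matrix.single a b c) =
    Matrix.SpecialLinearGroup.transvection (Sum.inl_ne_inr : (Sum.inl a : Fin 2 ⊕ Fin 6) ≠ Sum.inr b) c := by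
  apply Subtype.ext
  change Matrix.fromBlocks 1 (Matrix.single a b c) 0 1 = Matrix.transvection (Sum.inl a) (Sum.inr b) c
  ext i j
  rcases i with i | i <;> rcases j with j | j <;>
    simp [Matrix.transvection, Matrix.one_apply, Matrix.single_apply]

end blocks

/-! ### Homomorphisms -/

section Hom

theorem exists_p7 (K : Type u) [Field K] : ∃ φ : Matrix.SpecialLinearGroup (Fin 7) K →* ↥(chevE8.group K),
    ∀ a b (hab : a ≠ b) c, φ (Matrix.SpecialLinearGroup.transvection hab c) =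
      xc hp8 (vec chevE8 8 (r7 a b)) ((s7 a b : K) * c) :=
  exists_hom_S hp8 rt7.1 rt7.2.1 rt7.2.2.1 rt7.2.2.2.1 rt7.2.2.2.2.1 rt7.2.2.2.2.2

variable (K : Type u) [Field K]

noncomputable def p7 : Matrix.SpecialLinearGroup (Fin 7) K →* ↥(chevE8.group K) := (exists_p7 K).choose

theorem p7_tv (a b : Fin 7) (hab : a ≠ b) (c : K) : p7 K (Matrix.SpecialLinearGroup.transvection hab c) =
    xc hp8 (vec chevE8 8 (r7 a b)) ((s7 a b : K) * c) := (exists_p7 K).choose_spec a b hab c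

/-- reindexing -/
def Re : Matrix.SpecialLinearGroup (Fin 2 ⊕ Fin 6) K →* Matrix.SpecialLinearGroup (Fin 8) K where
  toFun A := ⟨Matrix.reindex e26 e26 A.1, by rw [Matrix.det_reindex_self]; exact A.2⟩
  map_one' := by
    apply Subtype.ext
    change Matrix.reindex e26 e26 1 = 1
    rw [Matrix.reindex_apply, Matrix.submatrix_one_equiv]
  map_mul' A B := by
    apply Subtype.ext
    change Matrix.reindex e26 e26 (A.1 * B.1) = Matrix.reindex e26 e26 A.1 * Matrix.reindex e26 e26 B.1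
    rw [Matrix.reindex_apply, Matrix.reindex_apply, Matrix.reindex_apply, Matrix.submatrix_mul_equiv]

/-- back -/
def Ri (A : Matrix.SpecialLinearGroup (Fin 8) K) : Matrix.SpecialLinearGroup (Fin 2 ⊕ Fin 6) K :=
  ⟨A.1.submatrix e26 e26, by rw [Matrix.det_submatrix_equiv_self]; exact A.2⟩

variable {K}

theorem Re_Ri (A : Matrix.SpecialLinearGroup (Fin 8) K) : Re K (Ri K A) = A := by
  apply Subtype.ext
  change Matrix.reindex e26 e26 (A.1.submatrix e26 e26) = A.1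
  rw [Matrix.reindex_apply, Matrix.submatrix_submatrix]
  simp

theorem Re_tv {a b : Fin 2 ⊕ Fin 6} (hab : a ≠ b) (c : K) : Re K (Matrix.SpecialLinearGroup.transvection hab c) =
    Matrix.SpecialLinearGroup.transvection (e26.injective.ne hab) c := by
  apply Subtype.ext
  change Matrix.reindex e26 e26 (Matrix.transvection a b c) = Matrix.transvection (e26 a) (e26 b) c
  ext i j
  rw [Matrix.reindex_apply, Matrix.submatrix_apply, Matrix.transvection, Matrix.transvection, Matrix.add_apply,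
    Matrix.add_apply, Matrix.one_apply, Matrix.one_apply, Matrix.single_apply, Matrix.single_apply]
  simp only [Equiv.eq_symm_apply, Equiv.apply_symm_apply]

variable (K)

/-- the block matrices in the group -/
noncomputable def Ps : Matrix.SpecialLinearGroup (Fin 2 ⊕ Fin 6) K →* ↥(chevE8.group K) := (p8 K).comp (Re K)

theorem Ps_tv {a b : Fin 2 ⊕ Fin 6} (hab : a ≠ b) (c : K) : Ps K (Matrix.SpecialLinearGroup.transvection hab c) =
    xc hp8 (vec chevE8 8 (r8 (e26 a) (e26 b))) ((s8 (e26 a) (e26 b) : K) * c) := by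
  rw [Ps, MonoidHom.comp_apply, Re_tv, p8_tv]

theorem mem_p7 {q : ℕ} (hq : R7 q) (c : K) : xc hp8 (vec chevE8 8 q) c ∈ (p7 K).range := by
  obtain ⟨a, b, hab, rfl⟩ := hq
  refine ⟨Matrix.SpecialLinearGroup.transvection hab ((s7 a b : K) * c), ?_⟩
  rw [p7_tv, ← mul_assoc, ← Int.cast_mul, rt7.2.2.2.1, Int.cast_one, one_mul]

theorem Ps_dR (A : Matrix.SpecialLinearGroup (Fin 6) K) : Ps K (dR A) ∈ (p7 K).range :=
  le_of_gen ((Ps K).comp dR) _ (fun a b hab c => by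
    change Ps K (dR (Matrix.SpecialLinearGroup.transvection hab c)) ∈ _
    rw [dR_tv, Ps_tv]
    exact mem_p7 K (r8_R7 a b hab) _) A

theorem xc_VJ {q : ℕ} (hq : q < chevE8.nroots) (h : ∃ k : Fin 8, k ∉ J6 ∧ 0 < vec chevE8 8 q k) (c : K) :
    xc hp8 (vec chevE8 8 q) c ∈ VJ cs8 hp8.isCartan (XX chevE8 8 K) {k | k ∈ J6} := by
  obtain ⟨k, hk, h0⟩ := h
  have hr := isRoot_vec hp8 cs8 hq
  have hx : vec chevE8 8 q ∈ NotJ cs8 hp8.isCartan {k | k ∈ J6} :=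
    ⟨hr, nonneg_of_pos_apply hr h0, k, hk, h0⟩
  exact RGD.le_Sup (X := XX chevE8 8 K) hx ((mem_XX hp8 hq _).2 ⟨c, rfl⟩)

theorem xc_VNJ {q : ℕ} (hq : q < chevE8.nroots) (h : ∃ k : Fin 8, k ∉ J6 ∧ vec chevE8 8 q k < 0) (c : K) :
    xc hp8 (vec chevE8 8 q) c ∈ VNJ cs8 hp8.isCartan (XX chevE8 8 K) {k | k ∈ J6} := by
  obtain ⟨k, hk, h0⟩ := h
  have hr := (isRoot_vec hp8 cs8 hq).neg
  have h1 : 0 < (-vec chevE8 8 q) k := by
    rw [Pi.neg_apply]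
    omega
  have hx : vec chevE8 8 q ∈ NotNJ cs8 hp8.isCartan {k | k ∈ J6} :=
    ⟨hr, nonneg_of_pos_apply hr h1, k, hk, h1⟩
  exact RGD.le_Sup (X := XX chevE8 8 K) hx ((mem_XX hp8 hq _).2 ⟨c, rfl⟩)

theorem Ps_low (Z : Matrix (Fin 6) (Fin 2) K) :
    Ps K (low Z) ∈ VNJ cs8 hp8.isCartan (XX chevE8 8 K) {k | k ∈ J6} := by
  induction Z using Matrix.induction_on' with
  | h_zero => rw [low_zero, map_one]; exact one_mem _
  | h_add p q hp hq => rw [← low_add, map_mul]; exact mul_mem hp hq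
  | h_std_basis i j x =>
    rw [low_single, Ps_tv]
    exact xc_VNJ K (rt8.1 _ _ (e26.injective.ne Sum.inr_ne_inl)) ⟨2, not2, r8_low6 i j⟩ _

theorem Ps_up (Z : Matrix (Fin 2) (Fin 6) K) :
    Ps K (up Z) ∈ VJ cs8 hp8.isCartan (XX chevE8 8 K) {k | k ∈ J6} := by
  induction Z using Matrix.induction_on' with
  | h_zero => rw [up_zero, map_one]; exact one_mem _
  | h_add p q hp hq => rw [← up_add, map_mul]; exact mul_mem hp hq
  | h_std_basis i j x =>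
    rw [up_single, Ps_tv]
    exact xc_VJ K (rt8.1 _ _ (e26.injective.ne Sum.inl_ne_inr)) ⟨2, not2, r8_up6 i j⟩ _

theorem V6_le : VJ cs8 hp8.isCartan (XX chevE8 8 K) {k | k ∈ J7} ≤
    (p7 K).range ⊔ VJ cs8 hp8.isCartan (XX chevE8 8 K) {k | k ∈ J6} := by
  refine RGD.Sup_le fun x hx => ?_
  obtain ⟨q, hq, rfl⟩ := (isRoot_iff hp8 _ x).1 hx.1
  obtain ⟨-, -, k, hk, h0⟩ := hx
  intro y hy
  obtain ⟨c, rfl⟩ := (mem_XX hp8 hq y).1 hy
  rcases out6p q hq ⟨k, hk, h0⟩ with h | h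
  · exact (le_sup_right : _ ≤ (p7 K).range ⊔ VJ cs8 hp8.isCartan (XX chevE8 8 K) {k | k ∈ J6}) (xc_VJ K hq h c)
  · exact (le_sup_left : _ ≤ (p7 K).range ⊔ VJ cs8 hp8.isCartan (XX chevE8 8 K) {k | k ∈ J6}) (mem_p7 K h c)

theorem VN6_le : VNJ cs8 hp8.isCartan (XX chevE8 8 K) {k | k ∈ J7} ≤
    VNJ cs8 hp8.isCartan (XX chevE8 8 K) {k | k ∈ J6} ⊔ (p7 K).range := by
  refine RGD.Sup_le fun x hx => ?_
  obtain ⟨-, -, k, hk, h0⟩ := id hx
  have hx1 : IsRoot cs8 hp8.isCartan x := NotNJ.isRoot hx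
  obtain ⟨q, hq, rfl⟩ := (isRoot_iff hp8 _ x).1 hx1
  rw [Pi.neg_apply] at h0
  intro y hy
  obtain ⟨c, rfl⟩ := (mem_XX hp8 hq y).1 hy
  rcases out6n q hq ⟨k, hk, by omega⟩ with h | h
  · exact (le_sup_left : _ ≤ VNJ cs8 hp8.isCartan (XX chevE8 8 K) {k | k ∈ J6} ⊔ (p7 K).range) (xc_VNJ K hq h c)
  · exact (le_sup_right : _ ≤ VNJ cs8 hp8.isCartan (XX chevE8 8 K) {k | k ∈ J6} ⊔ (p7 K).range) (mem_p7 K h c)

theorem p7_mem (A : Matrix.SpecialLinearGroup (Fin 7) K) :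
    p7 K A ∈ LJ cs8 hp8.isCartan (TT chevE8 K) (XX chevE8 8 K) {k | k ∈ J6} :=
  (Pc.block (J := {k | k ∈ J6}) (p7_tv K) rt7.1 r7J rt7.2.2.2.1).mem A

end Hom

/-! ### The group -/

/-- **`E₈(2)`.** -/
theorem fixed127 {K : Type u} [Field K] (hK : Nat.card K = 2) : ∃ x : ↥(chevE8.group K), x ^ 127 = 1 ∧
    ∀ g : ↥(chevE8.group K), g ≠ 1 → ∃ u v : ↥(chevE8.group K), g = (u * x * u⁻¹) * (v * x * v⁻¹) := by
  have hfin : Finite K := Nat.finite_of_card_ne_zero (by rw [hK]; norm_num)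
  have hc2 : CharP K 2 := by
    have : Fintype K := Fintype.ofFinite K
    exact charP_of_card_eq_prime (by rw [Fintype.card_eq_nat_card, hK])
  have hneg : ((-1 : ℤ) : K) = 1 := by
    rw [Int.cast_neg, Int.cast_one]
    exact CharTwo.neg_eq 1
  have hS := Cfsg.Agent.S1054.result (F := K) chevE8 (by simp)
  have hs1 : ∀ a b : Fin 7, ((s7 a b : ℤ) : K) = ((1 : ℤ) : K) := by
    intro a b
    have h1 := rt7.2.2.2.1 a b
    rcases mul_self_eq_one_iff.1 h1 with h | h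
    · rw [h]
    · rw [h, hneg, Int.cast_one]
  have hφ : ∀ a b (hab : a ≠ b) c, p7 K (Matrix.SpecialLinearGroup.transvection hab c) =
      xc hp8 (vec chevE8 8 (r7 a b)) (((1 : ℤ) : K) * c) := fun a b hab c => by rw [p7_tv, hs1]
  obtain ⟨c, hc, -, hA⟩ := H934.MF.cert7 hK
  obtain ⟨L', _, _, i, z, hz, -, hd⟩ := H934.MF.eig7 hK
  obtain ⟨g, hg⟩ := hd _ hc
  have hc2' : CharP L' 2 := charP_of_injective_ringHom i.injective 2
  have : Fact (Nat.Prime 2) := ⟨Nat.prime_two⟩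
  have hneg' : ((-1 : ℤ) : L') = 1 := by
    rw [Int.cast_neg, Int.cast_one]
    exact CharTwo.neg_eq 1
  have hs1' : ∀ a b : Fin 7, ((s7 a b : ℤ) : L') = ((1 : ℤ) : L') := by
    intro a b
    have h1 := rt7.2.2.2.1 a b
    rcases mul_self_eq_one_iff.1 h1 with h | h
    · rw [h]
    · rw [h, hneg', Int.cast_one]
  have B : H482.Ore.Fix.Bk hp8 i {k | k ∈ J6} 5 r7 j7 (p7 K) (p7 L') (fun _ _ => ((1 : ℤ) : K)) :=
    { simp := ⟨sim7.1, sim7.2⟩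
      rlt := rt7.1
      rJ := r7J
      hφ := hφ
      hφ' := fun a b hab c => by rw [p7_tv, hs1', map_intCast]
      ss := fun a => by norm_num }
  have hz0 : z ≠ 0 := by
    rintro rfl
    have h1 : orderOf (0 : L') = 0 := by
      rw [orderOf_eq_zero_iff']
      intro m hm
      rw [zero_pow hm.ne']
      exact zero_ne_one
    rw [h1] at hz
    norm_num at hz
  obtain ⟨n1, n2⟩ := H482.Ore.Fix.nf_block' hp8 2 B hg (fun q hq hk => ne_one_127 hz hz0 hq hk)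
  have hc127 : c ^ 127 = 1 := by
    apply Subtype.ext
    change c.1 ^ 127 = 1
    have h1 : (c.1 ^ 127).map i = (1 : Matrix (Fin 7) (Fin 7) K).map i := by
      rw [Matrix.map_pow, hg, Matrix.map_one _ (map_zero _) (map_one _)]
      have h2 : ∀ m : ℕ, ((g : Matrix (Fin 7) (Fin 7) L') * Matrix.diagonal (fun a : Fin 7 => z ^ (2 ^ (a : ℕ))) *
          ((g⁻¹ : GL (Fin 7) L') : Matrix (Fin 7) (Fin 7) L')) ^ m = (g : Matrix (Fin 7) (Fin 7) L') *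
          Matrix.diagonal (fun a : Fin 7 => z ^ (2 ^ (a : ℕ))) ^ m * ((g⁻¹ : GL (Fin 7) L') : Matrix (Fin 7) (Fin 7) L') :=
        fun m => Units.conj_pow g _ m
      rw [h2, Matrix.diagonal_pow]
      have h3 : (fun a : Fin 7 => z ^ (2 ^ (a : ℕ))) ^ 127 = 1 := by
        funext a
        rw [Pi.pow_apply, Pi.one_apply, ← pow_mul, mul_comm, pow_mul, ← hz, pow_orderOf_eq_one, one_pow]
      rw [h3]
      have h4 : Matrix.diagonal (1 : Fin 7 → L') = 1 := Matrix.diagonal_one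
      rw [h4, Matrix.mul_one, ← Units.val_mul, mul_inv_cancel, Units.val_one]
    ext a b
    have h5 := congrFun (congrFun h1 a) b
    rw [Matrix.map_apply, Matrix.map_apply] at h5
    exact i.injective h5
  obtain ⟨t, ht, hti⟩ := Cfsg.Agent.H122.Ore.Blk.inv_of_irr hp8
    (Cfsg.Agent.H122.Ore.Blk.rep_neg_of hp8 Cfsg.Agent.H122.Ore.Blk.frE8) (ε := 1) (by norm_num)
    (fun a b hab => rt7.1 a b hab) (fun a b hab => rt7.2.2.2.2.2 a b hab) hφ (by rw [hc]; exact H934.MF.irr7 hK)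
  refine ⟨p7 K c, by rw [← map_pow, hc127, map_one], fun g₀ hg₀ => ?_⟩
  have hW := finite_W hp8 cs8
  have : Nonempty (Fin 8) := ⟨0⟩
  have R := rgd (K := K) hp8 cs8 2
  have hnf : ∀ g, NF (VJ cs8 hp8.isCartan (XX chevE8 8 K) {k | k ∈ J6}) (p7 K (g * c * g⁻¹)) ∧
      NF (VNJ cs8 hp8.isCartan (XX chevE8 8 K) {k | k ∈ J6}) (p7 K (g * c * g⁻¹)) := by
    intro g
    rw [map_mul, map_mul, map_inv]
    exact ⟨Cfsg.Agent.H928.Ore.Fix.NF.conj (LJ_le_normalizer_VJ R _ (p7_mem K g)) n1, Cfsg.Agent.H928.Ore.Fix.NF.conj (LJ_le_normalizer_VNJ R _ (p7_mem K g)) n2⟩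
  obtain ⟨x, v, hv, u, hu, e⟩ := gauss R (G1_eq_top hp8 _) (coord hp8)
    (Cfsg.Agent.Nodes.ChevChart.irr_of Cfsg.Agent.Nodes.ChevChart.irr8)
    (Cfsg.Agent.H224.Ore.Row.not_mem_core (by norm_num) hS.1 2 hp8 hg₀)
  obtain ⟨vP, hvP, vL, hvL, rfl⟩ := exists_UNJ R (J := {k | k ∈ J7}) hv
  obtain ⟨uL, huL, uP, huP, rfl⟩ := (mem_U_iff R (J := {k | k ∈ J7})).1 hu
  obtain ⟨L, hL, rfl⟩ := (pc7 K).exists_lo sub7 hvL
  obtain ⟨U, hU, rfl⟩ := (pc7 K).exists_up sub7 huL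
  obtain ⟨S, hS1⟩ := Cfsg.Agent.H422.TW.lemB hK (Ri K (L * U))
  obtain ⟨Z, Y, d, hdec⟩ := dec hS1
  obtain ⟨s, hs⟩ : ∃ s, s = Ps K S := ⟨_, rfl⟩
  have hsL : s ∈ LJ cs8 hp8.isCartan (TT chevE8 K) (XX chevE8 8 K) {k | k ∈ J7} := by
    rw [hs]; exact (pc7 K).mem _
  have hM : s * (p8 K L * p8 K U) * s⁻¹ = Ps K (low Z) * Ps K (dR d) * Ps K (up Y) := by
    have h1 : p8 K L * p8 K U = Ps K (Ri K (L * U)) := by
      rw [Ps, MonoidHom.comp_apply, Re_Ri, map_mul]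
    rw [h1, hs, ← map_inv, ← map_mul, ← map_mul, hdec, map_mul, map_mul]
  have hv1 : s * vP * s⁻¹ ∈ VNJ cs8 hp8.isCartan (XX chevE8 8 K) {k | k ∈ J7} :=
    (Subgroup.mem_normalizer_iff.1 (LJ_le_normalizer_VNJ R _ hsL) vP).1 hvP
  have hu1 : s * uP * s⁻¹ ∈ VJ cs8 hp8.isCartan (XX chevE8 8 K) {k | k ∈ J7} :=
    (Subgroup.mem_normalizer_iff.1 (LJ_le_normalizer_VJ R _ hsL) uP).1 huP
  have hpL : (p7 K).range ≤ LJ cs8 hp8.isCartan (TT chevE8 K) (XX chevE8 8 K) {k | k ∈ J6} := by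
    rintro _ ⟨A, rfl⟩
    exact p7_mem K A
  obtain ⟨w, hw, _, ⟨A1, rfl⟩, ew⟩ : ∃ w ∈ VNJ cs8 hp8.isCartan (XX chevE8 8 K) {k | k ∈ J6}, ∃ l ∈ (p7 K).range,
      s * vP * s⁻¹ = w * l := by
    have h1 : s * vP * s⁻¹ ∈ ((VNJ cs8 hp8.isCartan (XX chevE8 8 K) {k | k ∈ J6} ⊔ (p7 K).range : Subgroup _) : Set _) :=
      VN6_le K hv1
    rw [Subgroup.coe_mul_of_right_le_normalizer_left _ _ (le_trans hpL (LJ_le_normalizer_VNJ R _)), Set.mem_mul] at h1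
    obtain ⟨w, hw, l, hl, e⟩ := h1
    exact ⟨w, hw, l, hl, e.symm⟩
  obtain ⟨_, ⟨A3, rfl⟩, w', hw', ew'⟩ : ∃ l ∈ (p7 K).range, ∃ w ∈ VJ cs8 hp8.isCartan (XX chevE8 8 K) {k | k ∈ J6},
      s * uP * s⁻¹ = l * w := by
    have h1 : s * uP * s⁻¹ ∈ (((p7 K).range ⊔ VJ cs8 hp8.isCartan (XX chevE8 8 K) {k | k ∈ J6} : Subgroup _) : Set _) :=
      V6_le K hu1
    rw [Subgroup.coe_mul_of_left_le_normalizer_right _ _ (le_trans hpL (LJ_le_normalizer_VJ R _)), Set.mem_mul] at h1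
    obtain ⟨l, hl, w, hw, e⟩ := h1
    exact ⟨l, hl, w, hw, e.symm⟩
  obtain ⟨A2, hA2⟩ := Ps_dR K d
  obtain ⟨z', hz'⟩ : ∃ z', z' = Ps K (low Z) := ⟨_, rfl⟩
  obtain ⟨y', hy'⟩ : ∃ y', y' = Ps K (up Y) := ⟨_, rfl⟩
  have hzm : z' ∈ VNJ cs8 hp8.isCartan (XX chevE8 8 K) {k | k ∈ J6} := by rw [hz']; exact Ps_low K Z
  have hym : y' ∈ VJ cs8 hp8.isCartan (XX chevE8 8 K) {k | k ∈ J6} := by rw [hy']; exact Ps_up K Y
  rw [← hz', ← hy', ← hA2] at hM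
  have hvv : w * (p7 K A1 * z' * (p7 K A1)⁻¹) ∈ VNJ cs8 hp8.isCartan (XX chevE8 8 K) {k | k ∈ J6} :=
    mul_mem hw ((Subgroup.mem_normalizer_iff.1 (LJ_le_normalizer_VNJ R _ (hpL ⟨A1, rfl⟩)) z').1 hzm)
  have huu : (p7 K A3)⁻¹ * y' * p7 K A3 * w' ∈ VJ cs8 hp8.isCartan (XX chevE8 8 K) {k | k ∈ J6} := by
    refine mul_mem ?_ hw'
    have h1 := (Subgroup.mem_normalizer_iff.1 (LJ_le_normalizer_VJ R _ (inv_mem (hpL ⟨A3, rfl⟩))) y').1 hym
    rwa [inv_inv] at h1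
  have etot : (s * x) * g₀ * (s * x)⁻¹ = w * (p7 K A1 * z' * (p7 K A1)⁻¹) * p7 K (A1 * A2 * A3) *
      ((p7 K A3)⁻¹ * y' * p7 K A3 * w') := by
    rw [map_mul, map_mul]
    calc (s * x) * g₀ * (s * x)⁻¹ = s * (x * g₀ * x⁻¹) * s⁻¹ := by group
      _ = (s * vP * s⁻¹) * (s * (p8 K L * p8 K U) * s⁻¹) * (s * uP * s⁻¹) := by rw [e]; group
      _ = w * p7 K A1 * (z' * p7 K A2 * y') * (p7 K A3 * w') := by rw [ew, ew', hM]
      _ = _ := by group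
  obtain ⟨c₁, c₂, hcc, hm1, hm2, hn1, hn2, ⟨x₁, hx1⟩, x₂, hx2⟩ : ∃ c₁ c₂ : ↥(chevE8.group K),
      p7 K (A1 * A2 * A3) = c₁ * c₂ ∧
      c₁ ∈ LJ cs8 hp8.isCartan (TT chevE8 K) (XX chevE8 8 K) {k | k ∈ J6} ∧
      c₂ ∈ LJ cs8 hp8.isCartan (TT chevE8 K) (XX chevE8 8 K) {k | k ∈ J6} ∧
      NF (VNJ cs8 hp8.isCartan (XX chevE8 8 K) {k | k ∈ J6}) c₁ ∧
      NF (VJ cs8 hp8.isCartan (XX chevE8 8 K) {k | k ∈ J6}) c₂ ∧
      (∃ x₁, c₁ = x₁ * p7 K c * x₁⁻¹) ∧ ∃ x₂, c₂ = x₂ * p7 K c * x₂⁻¹ := by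
    by_cases h1 : A1 * A2 * A3 = 1
    · exact ⟨p7 K c, (p7 K c)⁻¹, by rw [h1, map_one, mul_inv_cancel], p7_mem K c, inv_mem (p7_mem K c), n2, Cfsg.Agent.H928.Ore.Fix.NF.inv n1,
        ⟨1, by group⟩, t, hti.symm⟩
    · obtain ⟨g, h, e⟩ := hA _ h1
      exact ⟨p7 K (g * c * g⁻¹), p7 K (h * c * h⁻¹), by rw [e, map_mul], p7_mem K _, p7_mem K _, (hnf g).2, (hnf h).1,
        ⟨p7 K g, by rw [map_mul, map_mul, map_inv]⟩, p7 K h, by rw [map_mul, map_mul, map_inv]⟩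
  rw [hcc] at etot
  obtain ⟨a, ha, e1⟩ := exists_conj_of_fix R (LJ_le_normalizer_VNJ R _ hm1) hn1 hvv
  have huP' : c₂ * ((p7 K A3)⁻¹ * y' * p7 K A3 * w') * c₂⁻¹ ∈ VJ cs8 hp8.isCartan (XX chevE8 8 K) {k | k ∈ J6} :=
    (Subgroup.mem_normalizer_iff.1 (LJ_le_normalizer_VJ R _ hm2) _).1 huu
  obtain ⟨b, hb, e2⟩ := exists_conj_of_fix R (LJ_le_normalizer_VJ R _ hm2) hn2 huP'
  have e3 : (s * x) * g₀ * (s * x)⁻¹ = (a * c₁ * a⁻¹) * (b * c₂ * b⁻¹) := by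
    rw [etot, ← e1, ← e2]
    group
  refine ⟨(s * x)⁻¹ * a * x₁, (s * x)⁻¹ * b * x₂, ?_⟩
  calc g₀ = (s * x)⁻¹ * ((s * x) * g₀ * (s * x)⁻¹) * (s * x) := by group
    _ = _ := by rw [e3, hx1, hx2]; group

/-- **`E₈(2)`.** -/
theorem pp_E8_two {K : Type u} [Field K] (hK : Nat.card K = 2) : Cfsg.Agent.H494.TC.PP ↥(chevE8.group K) := by
  have hfin : Finite K := Nat.finite_of_card_ne_zero (by rw [hK]; norm_num)
  obtain ⟨x, hx, h⟩ := fixed127 hK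
  have hS := Cfsg.Agent.S1054.result (F := K) chevE8 (by simp)
  have hx1 : x ≠ 1 := by
    rintro rfl
    have := hS.1.toNontrivial
    obtain ⟨g, hg⟩ := exists_ne (1 : ↥(chevE8.group K))
    obtain ⟨u, v, e⟩ := h g hg
    exact hg (by rw [e]; group)
  have h1 : orderOf x = 127 := (haveI : Fact (Nat.Prime 127) := ⟨by norm_num⟩; orderOf_eq_prime hx hx1)
  refine ⟨x, by rw [h1]; norm_num, by rw [h1]; norm_num, h⟩

end Cfsg.Agent.H122.SX.E127
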