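import Cfsg.Agent.H122.SX.ERow
import Cfsg.Agent.H46.TL.SevenMain

/-!
# `E₈(q)`, all `q`: every `g ≠ 1` is a product of two conjugates of one element of prime order (helper122, S2452)
-/

set_option autoImplicit false
set_option linter.unusedSectionVars false

namespace Cfsg.Agent.H122.SX.E127

open Cfsg.Lie Cfsg.Agent.ChevalleyStructure

universe u

/-- **`E₈(q)`.** -/
theorem pp_E8 (K : Type u) [Field K] [Finite K] : Cfsg.Agent.H494.TC.PP ↥(chevE8.group K) := by
  by_cases h2 : Nat.card K = 2
  · exact pp_E8_two h2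
  · have h3 : 3 ≤ Nat.card K := by
      have h1 : 1 < Nat.card K := Finite.one_lt_card
      omega
    obtain ⟨r, c, hr, hr7, hr6, hd, -, hc, hirr, hcc⟩ := Cfsg.Agent.H46.TL.seven K h3
    exact pp_of_seven h3 hr hr6 hr7 hd hirr hc hcc

end Cfsg.Agent.H122.SX.E127
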