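import Cfsg.Agent.H122.SX.ECover
import Cfsg.Agent.H493.TW.TwoGl

/-!
# `E₈(q)`, `q ≥ 3`: assembly from the boxes (helper122, S2452)

`pp_of_boxes` : the kick, the class in `SL_7` and the fixed points give `PP`.
-/

set_option autoImplicit false
set_option linter.unusedSectionVars false

namespace Cfsg.Agent.H122.SX.E127

open CoxeterSystem Cfsg.Agent.ChevalleyStructure.CoxeterGeom Cfsg.Agent.Tits.Roots Cfsg.Agent.Tits.Core
  Cfsg.Agent.Nodes.Reps Cfsg.Agent.Nodes.BNOf Cfsg.Agent.Nodes.RGDLib Cfsg.Agent.Nodes.Bruhat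
  Cfsg.Agent.Nodes.OppDec Cfsg.Agent.Nodes.LeviDec Cfsg.Agent.Nodes.KindChev Cfsg.Agent.Nodes.ChevCls
  Cfsg.Agent.OddHalf.NI.ModelChev Cfsg.Agent.Nodes.StabComb
  Cfsg.Agent.H928.Ore.Frame
open Cfsg.Lie Cfsg.Agent.ChevalleyStructure Cfsg.Agent.ChevalleyStructure.Elts
  Cfsg.Agent.ChevalleyStructure.RootVec Cfsg.Agent.ChevalleyStructure.NPerm
  Cfsg.Agent.ChevalleyStructure.CoxeterGeomTypes Cfsg.Agent.Nodes.RGDChev Cfsg.Agent.KFacts.RgdChevCoord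
open Cfsg.Agent.TitsThree.KExcRT Cfsg.Agent.AGraded
open Cfsg.Agent.H78.Pw Cfsg.Agent.H85.Pw Cfsg.Agent.H194.Pw
open Cfsg.Agent.H122.Pw Cfsg.Agent.H122.SX
open scoped MatrixGroups

universe u

variable {K : Type u} [Field K] [Finite K]

/-- the determinant of `A * diag(1, 1, 1, z, …, z)` -/
theorem det_dz (A : Matrix.SpecialLinearGroup (Fin 8) K) (z : Kˣ) : (A.1 * Matrix.diagonal (dz z)).det ≠ 0 := by
  rw [Matrix.det_mul, A.2, one_mul]
  intro h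
  have h1 := congrArg Matrix.det (dz_mul z)
  rw [Matrix.det_mul, h, zero_mul, Matrix.det_one] at h1
  exact zero_ne_one h1

/-- **Assembly.** -/
theorem pp_of_boxes
    (kick : ∀ g : ↥(chevE8.group K), g ≠ 1 → ∃ (x v u : ↥(chevE8.group K))
      (A : Matrix.SpecialLinearGroup (Fin 8) K) (z : Kˣ),
      v ∈ VNJ cs8 hp8.isCartan (XX chevE8 8 K) {k | k ∈ J7} ∧ u ∈ VJ cs8 hp8.isCartan (XX chevE8 8 K) {k | k ∈ J7} ∧
      x * g * x⁻¹ = v * (p8 K A * hz z) * u ∧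
      ∀ μ : K, 2 ≤ (A.1 * Matrix.diagonal (dz z) - Matrix.scalar (Fin 8) μ).rank)
    {c : Matrix.SpecialLinearGroup (Fin 7) K} {r : ℕ} (hr : r.Prime) (hr6 : Nat.Coprime r 6) (hc : c ^ r = 1)
    (hcc : ∀ B : Matrix.SpecialLinearGroup (Fin 7) K, (∀ a : K, B.1 ≠ a • (1 : Matrix (Fin 7) (Fin 7) K)) →
      ∃ g h, B = (g * c * g⁻¹) * (h * c * h⁻¹))
    (n1 : NF (VJ cs8 hp8.isCartan (XX chevE8 8 K) {k | k ∈ J6}) (p7 K c))
    (n2 : NF (VNJ cs8 hp8.isCartan (XX chevE8 8 K) {k | k ∈ J6}) (p7 K c)) :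
    Cfsg.Agent.H494.TC.PP ↥(chevE8.group K) := by
  have hall : ∀ g : ↥(chevE8.group K), g ≠ 1 → ∃ u v : ↥(chevE8.group K),
      g = (u * p7 K c * u⁻¹) * (v * p7 K c * v⁻¹) := by
    intro g hg
    obtain ⟨x, v, u, A, z, hv, hu, e, hN⟩ := kick g hg
    obtain ⟨S, X, Y, C, hS, -, hC⟩ := H493.TW.two_block_of_equiv e26 (by norm_num) (A.1 * Matrix.diagonal (dz z))
      (det_dz A z) ((z : K) ^ 2) hN
    exact cover_of_good hv hu e hS hC hcc n1 n2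
  have hx1 : p7 K c ≠ 1 := by
    intro h1
    have hS := Cfsg.Agent.S1054.result (F := K) chevE8 (by simp)
    have := hS.1.toNontrivial
    obtain ⟨g, hg⟩ := exists_ne (1 : ↥(chevE8.group K))
    obtain ⟨u, v, e⟩ := hall g hg
    exact hg (by rw [e, h1]; group)
  have h1 : orderOf (p7 K c) = r := (haveI : Fact r.Prime := ⟨hr⟩
    orderOf_eq_prime (by rw [← map_pow, hc, map_one]) hx1)
  exact ⟨p7 K c, by rw [h1]; exact hr, by rw [h1]; exact hr6, hall⟩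

end Cfsg.Agent.H122.SX.E127
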