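import Cfsg.Agent.H122.TC.Real

/-!
# Gauss decomposition with PRESCRIBED torus part, and the two-class frame (helper122, S2464)

* `gauss_h` : every `g` outside the core of `B` has a conjugate `v k u`, `v ∈ U⁻`, `u ∈ U`, for a given `k ∈ T`;
* `pair_h` : the frame `H928.Ore.Frame.pair` with the torus part `k`;
* `six_of_levi_h` : two fixed classes from a Levi subgroup.
-/

set_option autoImplicit false
set_option linter.unusedSectionVars false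

namespace Cfsg.Agent.H122.SX

open CoxeterSystem Cfsg.Agent.ChevalleyStructure.CoxeterGeom Cfsg.Agent.Tits.Roots Cfsg.Agent.Tits.Core
  Cfsg.Agent.Tits.RootComb Cfsg.Agent.Tits.Exchange Cfsg.Agent.Nodes.Comb Cfsg.Agent.Nodes.Reps
  Cfsg.Agent.Nodes.BNOf Cfsg.Agent.Nodes.StabComb
  Cfsg.Agent.Nodes.RGDLib Cfsg.Agent.Nodes.Bruhat Cfsg.Agent.Nodes.OppDec Cfsg.Agent.Nodes.LeviDec
  Cfsg.Agent.OddHalf.NI.Mult
  Cfsg.Agent.H162.GaussComb Cfsg.Agent.H162.GaussDec Cfsg.Agent.H162.GaussLevi Cfsg.Agent.H162.GaussSL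
  Cfsg.Agent.H928.Ore.Frame

section Abstract

variable {I W Y : Type*} [Fintype I] [DecidableEq I] [Group W] [Group Y] {M : CoxeterMatrix I}
  {cs : CoxeterSystem M W} {A : I → I → ℤ} {h : IsCartan M A} {p : ℕ} {T : Subgroup Y} {n : I → Y}
  {X : (I → ℤ) → Subgroup Y} (R : RGD cs h p T n X)

include R

/-- **Gauss decomposition up to conjugation, with prescribed torus part.** -/
theorem gauss_aux_h [Finite W] (hG : G1 cs h X = ⊤)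
    (hconn : ∀ J : Set I, J.Nonempty → J ≠ Set.univ → ∃ a ∈ J, ∃ b, b ∉ J ∧ M a b ≠ 2)
    {m : I → Y} (hmr : ∀ i, Rp cs R.nsys (cs.simple i) (m i)) (hm1 : ∀ i, R1 T X i (m i)) {g : Y}
    (hg : g ∉ (RGD.B cs h T X).normalCore) {κ : Y} (hκ : κ ∈ T) :
    ∃ x : Y, ∃ v ∈ UN cs h X, ∃ u ∈ RGD.Sup X (RGD.Pos cs h), x * g * x⁻¹ = v * κ * u := by
  obtain ⟨x, w, hw, hfull⟩ := exists_full R hG hconn hg
  obtain ⟨b₁, hb₁, k, hk, b₂, hb₂, e⟩ := hw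
  obtain ⟨ω, hω, rfl⟩ := cs.exists_isReduced w
  have hω' : cs.length (cs.wordProd ω) = ω.length := hω
  have hmem : ∀ i, i ∈ ω := by
    intro i
    by_contra hi
    have h1 : i ∈ supp cs (cs.wordProd ω) := by rw [hfull]; trivial
    refine h1 (wordProd_mem_WJ cs fun j hj => ?_)
    simp only [Set.mem_compl_iff, Set.mem_singleton_iff]
    rintro rfl
    exact hi hj
  have hQ : T ≤ QQ T X ω := by
    have h1 : T0 R ≤ QQ T X ω := iSup_le fun i => le_QQ (hmem i)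
    rwa [iSup_eq R hG] at h1
  have hk0 : Rp cs R.nsys (cs.wordProd ω) (PW m ω) := ga_word.rp_PW' R hmr ω
  obtain ⟨t₁, ht₁, u₁, hu₁, e₁⟩ := R.mem_B.1 (inv_mem hb₁)
  obtain ⟨t₂, ht₂, u₂, hu₂, e₂⟩ := R.mem_B.1 hb₂
  have hb₁' : b₁ = u₁⁻¹ * t₁⁻¹ := by
    rw [← inv_inv b₁, e₁]; group
  have ht₃ : (PW m ω)⁻¹ * k ∈ T := hk0.unique hk
  have ht₄ : (PW m ω)⁻¹ * t₁⁻¹ * PW m ω ∈ T := by
    have h1 := (mem_normalizer_iff_cj.1 hk0.inv.mem_normalizer)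
    have h2 : (PW m ω)⁻¹ * t₁⁻¹ * (PW m ω)⁻¹⁻¹ ∈ cj (PW m ω)⁻¹ T := conj_mem_cj.2 (inv_mem ht₁)
    rwa [h1, inv_inv] at h2
  obtain ⟨t, ht⟩ : ∃ t, t = ((PW m ω)⁻¹ * t₁⁻¹ * PW m ω) * ((PW m ω)⁻¹ * k) * t₂ := ⟨_, rfl⟩
  have htT : t ∈ T := by rw [ht]; exact mul_mem (mul_mem ht₄ ht₃) ht₂
  have e' : x * g * x⁻¹ = u₁⁻¹ * PW m ω * t * u₂ := by
    rw [e, hb₁', e₂, ht]; group
  obtain ⟨u, hu, v, hv, u', hu', e3⟩ := ga_word R hmr hm1 ω hω' (κ * t⁻¹) (hQ (mul_mem hκ (inv_mem htT)))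
  refine ⟨u * u₁ * x, v, hv, (t⁻¹ * u' * t) * u₂ * u₁⁻¹ * u⁻¹, ?_, ?_⟩
  · exact mul_mem (mul_mem (mul_mem (T_normalizes_U' R htT hu') hu₂) (inv_mem hu₁)) (inv_mem hu)
  · calc u * u₁ * x * g * (u * u₁ * x)⁻¹ = u * u₁ * (x * g * x⁻¹) * u₁⁻¹ * u⁻¹ := by group
      _ = (u * PW m ω) * t * u₂ * u₁⁻¹ * u⁻¹ := by rw [e']; group
      _ = v * κ * (t⁻¹ * u' * t * u₂ * u₁⁻¹ * u⁻¹) := by rw [e3]; group

variable {F : I → Type*} [∀ i, Field (F i)] {s : ∀ i, Matrix.SpecialLinearGroup (Fin 2) (F i) →* Y}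

/-- **Gauss decomposition up to conjugation, with prescribed torus part.** -/
theorem gauss_h [Finite W] (hG : G1 cs h X = ⊤) (C : Coord X F s)
    (hconn : ∀ J : Set I, J.Nonempty → J ≠ Set.univ → ∃ a ∈ J, ∃ b, b ∉ J ∧ M a b ≠ 2) {g : Y}
    (hg : g ∉ (RGD.B cs h T X).normalCore) {κ : Y} (hκ : κ ∈ T) :
    ∃ x : Y, ∃ v ∈ UN cs h X, ∃ u ∈ RGD.Sup X (RGD.Pos cs h), x * g * x⁻¹ = v * κ * u :=
  gauss_aux_h R hG hconn (m := fun i => s i (OddHalf.NI.Mult.nn 1)) (fun i => rp_nn R C i 1) (fun i => coord_R1 R C i) hg hκ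

/-- **Pairs, with prescribed torus part.** -/
theorem pair_h [Finite W] [Finite Y] (hG : G1 cs h X = ⊤) (C : Coord X F s)
    (hconn : ∀ J : Set I, J.Nonempty → J ≠ Set.univ → ∃ a ∈ J, ∃ b, b ∉ J ∧ M a b ≠ 2)
    {J : Set I} {Pr : Y → Y → Prop} {κ : Y} (hκ : κ ∈ T)
    (hb : ∀ v ∈ UNJ cs h X J, ∀ u ∈ UJ cs h X J, ∃ c₁ c₂, v * κ * u = c₁ * c₂ ∧ LP cs h T X J c₁ c₂ ∧ Pr c₁ c₂) {g : Y}
    (hg : g ∉ (RGD.B cs h T X).normalCore) :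
    ∃ c₁ c₂ x y : Y, Pr c₁ c₂ ∧ g = (x * c₁ * x⁻¹) * (y * c₂ * y⁻¹) := by
  obtain ⟨x, v, hv, u, hu, e⟩ := gauss_h R hG C hconn hg hκ
  obtain ⟨vP, hvP, vL, hvL, rfl⟩ := exists_UNJ R (J := J) hv
  obtain ⟨uL, huL, uP, huP, rfl⟩ := (mem_U_iff R (J := J)).1 hu
  obtain ⟨c₁, c₂, hc, hp, hP⟩ := hb vL hvL uL huL
  obtain ⟨a, ha, e1⟩ := exists_conj_of_fix R (LJ_le_normalizer_VNJ R J hp.mem₁) hp.fix₁ hvP
  have huP' : c₂ * uP * c₂⁻¹ ∈ VJ cs h X J :=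
    (Subgroup.mem_normalizer_iff.1 (LJ_le_normalizer_VJ R J hp.mem₂) uP).1 huP
  obtain ⟨b, hb, e2⟩ := exists_conj_of_fix R (LJ_le_normalizer_VJ R J hp.mem₂) hp.fix₂ huP'
  have e3 : x * g * x⁻¹ = (a * c₁ * a⁻¹) * (b * c₂ * b⁻¹) := by
    rw [e, ← e1, ← e2]
    calc vP * vL * κ * (uL * uP) = vP * (vL * κ * uL) * uP := by group
      _ = vP * c₁ * (c₂ * uP * c₂⁻¹ * c₂) := by rw [hc]; group
  refine ⟨c₁, c₂, x⁻¹ * a, x⁻¹ * b, hP, ?_⟩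
  calc g = x⁻¹ * (x * g * x⁻¹) * x := by group
    _ = _ := by rw [e3]; group

end Abstract

end Cfsg.Agent.H122.SX
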