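import Cfsg.Agent.H122.Pw.EightThree
import Cfsg.Agent.H122.SX.CornerD
import Cfsg.Agent.H122.SX.GaussH

/-!
# `E₈(3)` with fixed classes: preparations (helper122, S2464)
-/

set_option autoImplicit false
set_option linter.unusedSectionVars false

namespace Cfsg.Agent.H122.SX

open CoxeterSystem Cfsg.Agent.ChevalleyStructure.CoxeterGeom Cfsg.Agent.Tits.Roots Cfsg.Agent.Tits.Core
  Cfsg.Agent.Nodes.Reps Cfsg.Agent.Nodes.BNOf Cfsg.Agent.Nodes.RGDLib Cfsg.Agent.Nodes.Bruhat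
  Cfsg.Agent.Nodes.OppDec Cfsg.Agent.Nodes.LeviDec Cfsg.Agent.Nodes.KindChev Cfsg.Agent.Nodes.ChevCls
  Cfsg.Agent.OddHalf.NI.ModelChev Cfsg.Agent.Nodes.StabComb
  Cfsg.Agent.H162.GaussDec Cfsg.Agent.H162.GaussLevi Cfsg.Agent.H162.GaussSL Cfsg.Agent.H162.GaussReg
  Cfsg.Agent.H162.GaussPQ
  Cfsg.Agent.H928.Ore.Frame
open Cfsg.Lie Cfsg.Agent.ChevalleyStructure Cfsg.Agent.ChevalleyStructure.Elts
  Cfsg.Agent.ChevalleyStructure.RootVec Cfsg.Agent.ChevalleyStructure.NPerm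
  Cfsg.Agent.ChevalleyStructure.CoxeterGeomTypes Cfsg.Agent.Nodes.RGDChev Cfsg.Agent.KFacts.RgdChevCoord
open Cfsg.Agent.FixBN.FieldRGD (uu vv dd ww)
open Cfsg.Agent.TitsThree.KExcRT Cfsg.Agent.AGraded
open Cfsg.Agent.H78.Pw Cfsg.Agent.H85.Pw Cfsg.Agent.H194.Pw
open Cfsg.Agent.H150.E6T (le_of_gen)
open Cfsg.Agent.H162.GaussExc (coord act_sg sg_mem)
open Cfsg.Agent.H122.Pw
open scoped MatrixGroups

universe u

/-! ### Rows and columns -/

section RC

variable {n : ℕ} (K : Type u) [Field K]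

/-- the rows of `P` are the rows of the identity -/
def RowS (P : Fin n → Prop) : Subgroup (Matrix.SpecialLinearGroup (Fin n) K) where
  carrier := {A | ∀ i, P i → ∀ j, A.1 i j = (1 : Matrix (Fin n) (Fin n) K) i j}
  one_mem' i _ j := rfl
  mul_mem' {A B} hA hB i hi j := by
    change (A.1 * B.1) i j = _
    rw [Matrix.mul_apply]
    simp only [hA i hi]
    rw [← Matrix.mul_apply, Matrix.one_mul]
    exact hB i hi j
  inv_mem' {A} hA i hi j := by
    have h1 : A.1 * (A⁻¹).1 = 1 := by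
      change (A * A⁻¹).1 = 1
      rw [mul_inv_cancel]; rfl
    have h2 := congrFun (congrFun h1 i) j
    rw [Matrix.mul_apply] at h2
    simp only [hA i hi] at h2
    rw [← Matrix.mul_apply, Matrix.one_mul] at h2
    exact h2

/-- the columns of `P` are the columns of the identity -/
def ColS (P : Fin n → Prop) : Subgroup (Matrix.SpecialLinearGroup (Fin n) K) where
  carrier := {A | ∀ j, P j → ∀ i, A.1 i j = (1 : Matrix (Fin n) (Fin n) K) i j}
  one_mem' i _ j := rfl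
  mul_mem' {A B} hA hB j hj i := by
    change (A.1 * B.1) i j = _
    rw [Matrix.mul_apply]
    simp only [hB j hj]
    rw [← Matrix.mul_apply, Matrix.mul_one]
    exact hA j hj i
  inv_mem' {A} hA j hj i := by
    have h1 : (A⁻¹).1 * A.1 = 1 := by
      change (A⁻¹ * A).1 = 1
      rw [inv_mul_cancel]; rfl
    have h2 := congrFun (congrFun h1 i) j
    rw [Matrix.mul_apply] at h2
    simp only [hA j hj] at h2
    rw [← Matrix.mul_apply, Matrix.mul_one] at h2
    exact h2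

variable {K}

theorem mem_RowS {P : Fin n → Prop} {A : Matrix.SpecialLinearGroup (Fin n) K} : A ∈ RowS K P ↔
    ∀ i, P i → ∀ j, A.1 i j = (1 : Matrix (Fin n) (Fin n) K) i j := Iff.rfl

theorem mem_ColS {P : Fin n → Prop} {A : Matrix.SpecialLinearGroup (Fin n) K} : A ∈ ColS K P ↔
    ∀ j, P j → ∀ i, A.1 i j = (1 : Matrix (Fin n) (Fin n) K) i j := Iff.rfl

theorem tv_RowS {P : Fin n → Prop} {a b : Fin n} (hab : a ≠ b) (ha : ¬ P a) (c : K) :
    Matrix.SpecialLinearGroup.transvection hab c ∈ RowS K P := by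
  intro i hi j
  change Matrix.transvection a b c i j = _
  rw [Matrix.transvection, Matrix.add_apply, Matrix.single_apply, if_neg, add_zero]
  rintro ⟨rfl, -⟩
  exact ha hi

theorem tv_ColS {P : Fin n → Prop} {a b : Fin n} (hab : a ≠ b) (hb : ¬ P b) (c : K) :
    Matrix.SpecialLinearGroup.transvection hab c ∈ ColS K P := by
  intro j hj i
  change Matrix.transvection a b c i j = _
  rw [Matrix.transvection, Matrix.add_apply, Matrix.single_apply, if_neg, add_zero]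
  rintro ⟨-, rfl⟩
  exact hb hj

end RC

/-! ### The roots -/

/-- the last row -/
def Rr (q : ℕ) : Prop := ∃ b : Fin 5, b ≠ 4 ∧ ra 4 b = q

/-- the last column -/
def Rc (q : ℕ) : Prop := ∃ b : Fin 5, b ≠ 4 ∧ ra b 4 = q

instance decRr (q : ℕ) : Decidable (Rr q) := by
  unfold Rr
  refine @Fintype.decidableExistsFintype _ _ (fun b => ?_) _
  infer_instance

instance decRc (q : ℕ) : Decidable (Rc q) := by
  unfold Rc
  refine @Fintype.decidableExistsFintype _ _ (fun b => ?_) _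
  infer_instance

theorem out7n' : ∀ q < chevE8.nroots, (∃ k : Fin 8, k ∉ J7 ∧ vec chevE8 8 q k < 0) →
    (∃ k : Fin 8, k ∉ JP ∧ vec chevE8 8 q k < 0) ∨ Rr q := by
  intro q hq
  revert q
  refine @of_decide_eq_true _ ?_ ?_
  · refine @Nat.decidableBallLT _ _ fun q _ => ?_
    infer_instance
  · decide +kernel

theorem out7p' : ∀ q < chevE8.nroots, (∃ k : Fin 8, k ∉ J7 ∧ 0 < vec chevE8 8 q k) →
    (∃ k : Fin 8, k ∉ JP ∧ 0 < vec chevE8 8 q k) ∨ Rc q := by
  intro q hq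
  revert q
  refine @of_decide_eq_true _ ?_ ?_
  · refine @Nat.decidableBallLT _ _ fun q _ => ?_
    infer_instance
  · decide +kernel

theorem r8_L' : ∀ a b : Fin 4, a ≠ b → ra a.castSucc b.castSucc = r8 (e8 (Sum.inl a)) (e8 (Sum.inl b)) := by
  decide +kernel

theorem c4 : ∀ a : Fin 4, a.castSucc ≠ (4 : Fin 5) := by decide

/-- the exponents of the sign -/
def dl : Fin 8 → ℤ := ![1, 1, 1, 0, 0, 0, 0, 0]

theorem cart8 : ∀ a b : Fin 8, a ≠ b → chevE8.cartan 1 (r8 a b) = dl b - dl a := by decide +kernel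

theorem ra34 : ra 3 4 = chevE8.simple 1 ∧ ra 4 3 = chevE8.neg (chevE8.simple 1) := by decide +kernel

/-! ### The sign -/

section sign

variable (K : Type u) [Field K]

/-- the sign -/
def sgn : Fin 8 → K := ![-1, -1, -1, 1, 1, 1, 1, 1]

theorem sgn_sq (i : Fin 8) : sgn K i * sgn K i = 1 := by
  fin_cases i <;> simp [sgn]

/-- the sign on the first block -/
def sgn4 : Fin 4 → K := ![-1, -1, -1, 1]

theorem sgn4_sq (i : Fin 4) : sgn4 K i * sgn4 K i = 1 := by
  fin_cases i <;> simp [sgn4]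

theorem sgn_e8 (i : Fin 4 ⊕ Fin 4) : sgn K (e8 i) = CD.sg (sgn4 K) i := by
  rcases i with i | i <;> fin_cases i <;> rfl

/-- `D_8` -/
noncomputable abbrev D8 : Matrix.SpecialLinearGroup (Fin 8) K →* Matrix.SpecialLinearGroup (Fin 8) K :=
  CD.Dg (sgn K) (sgn_sq K)

/-- `D_44` -/
noncomputable abbrev D44 :
    Matrix.SpecialLinearGroup (Fin 4 ⊕ Fin 4) K →* Matrix.SpecialLinearGroup (Fin 4 ⊕ Fin 4) K :=
  CD.Dg (CD.sg (sgn4 K)) (CD.sg_sq (sgn4_sq K))

theorem Re_D (A : Matrix.SpecialLinearGroup (Fin 4 ⊕ Fin 4) K) : Re K (D44 K A) = D8 K (Re K A) := by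
  apply Subtype.ext
  ext i j
  rw [CD.Dg_apply]
  change (D44 K A).1 (e8.symm i) (e8.symm j) = _ * A.1 (e8.symm i) (e8.symm j) * _
  rw [CD.Dg_apply, ← sgn_e8, ← sgn_e8, Equiv.apply_symm_apply, Equiv.apply_symm_apply]

theorem D8_tv {a b : Fin 8} (hab : a ≠ b) (c : K) : D8 K (Matrix.SpecialLinearGroup.transvection hab c) =
    Matrix.SpecialLinearGroup.transvection hab (sgn K a * c * sgn K b) := by
  apply Subtype.ext
  ext i j
  rw [CD.Dg_apply]
  change _ * Matrix.transvection a b c i j * _ = Matrix.transvection a b _ i j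
  rw [Matrix.transvection, Matrix.transvection, Matrix.add_apply, Matrix.add_apply, Matrix.single_apply,
    Matrix.single_apply, Matrix.one_apply]
  by_cases h : a = i ∧ b = j
  · obtain ⟨rfl, rfl⟩ := h
    rw [if_neg hab, if_pos ⟨rfl, rfl⟩, if_pos ⟨rfl, rfl⟩, zero_add, zero_add]
  · rw [if_neg h, if_neg h]
    by_cases hij : i = j
    · subst hij
      rw [if_pos rfl, add_zero, mul_one, sgn_sq]
    · rw [if_neg hij, add_zero, mul_zero, zero_mul]

/-- the torus element -/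
noncomputable def kap : ↥(chevE8.group K) := Cfsg.Agent.H162.GaussExc.sg hp8 (Pi.single 1 1) (-1 : Kˣ)

theorem kap_mem : kap K ∈ TT chevE8 K := sg_mem hp8 _ _

theorem sgn_zpow (i : Fin 8) : (((-1 : Kˣ) ^ dl i : Kˣ) : K) = sgn K i := by
  fin_cases i <;> simp [dl, sgn]

theorem dl_neg (i : Fin 8) : (((-1 : Kˣ) ^ (-dl i) : Kˣ) : K) = sgn K i := by
  fin_cases i <;> simp [dl, sgn]

theorem kap_tv {a b : Fin 8} (hab : a ≠ b) (c : K) : kap K * xc hp8 (vec chevE8 8 (r8 a b)) c * (kap K)⁻¹ =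
    xc hp8 (vec chevE8 8 (r8 a b)) (sgn K a * c * sgn K b) := by
  have h1 : ∑ i : Fin 8, (Pi.single 1 1 : Fin 8 → ℤ) i * chevE8.cartan (i : ℕ) (r8 a b) = -dl a + dl b := by
    rw [Finset.sum_eq_single 1]
    · rw [Pi.single_eq_same, one_mul]
      exact (cart8 a b hab).trans (by rw [sub_eq_add_neg, add_comm])
    · intro i _ hi
      rw [Pi.single_eq_of_ne hi, zero_mul]
    · intro h
      exact absurd (Finset.mem_univ _) h
  have h2 : (((-1 : Kˣ) ^ (-dl a + dl b) : Kˣ) : K) * c = sgn K a * c * sgn K b := by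
    rw [zpow_add, Units.val_mul, dl_neg, sgn_zpow]
    ring
  rw [kap, act_sg hp8 _ _ (rt8.1 a b hab), h1, h2]

theorem kap_p8 (A : Matrix.SpecialLinearGroup (Fin 8) K) : kap K * p8 K A * (kap K)⁻¹ = p8 K (D8 K A) := by
  have h := le_of_gen (MonoidHom.id (Matrix.SpecialLinearGroup (Fin 8) K))
    (((MulAut.conj (kap K)).toMonoidHom.comp (p8 K)).eqLocus ((p8 K).comp (D8 K)))
    (fun a b hab c => by
      change kap K * p8 K (Matrix.SpecialLinearGroup.transvection hab c) * (kap K)⁻¹ =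
        p8 K (D8 K (Matrix.SpecialLinearGroup.transvection hab c))
      rw [D8_tv, p8_tv, p8_tv, kap_tv K hab]
      congr 1
      ring) A
  exact h

theorem kap_Ps (A : Matrix.SpecialLinearGroup (Fin 4 ⊕ Fin 4) K) : kap K * Ps K A * (kap K)⁻¹ = Ps K (D44 K A) := by
  rw [Ps, MonoidHom.comp_apply, MonoidHom.comp_apply, Re_D, kap_p8]

/-- the matrix of `kap` -/
def Hm : Matrix.SpecialLinearGroup (Fin 5) K :=
  ⟨Matrix.diagonal ![1, 1, 1, -1, -1], by rw [Matrix.det_diagonal]; simp [Fin.prod_univ_succ]⟩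

theorem pa_H : pa K (Hm K) = kap K := by
  have h1 : Hm K = (Matrix.SpecialLinearGroup.transvection (by decide : (3 : Fin 5) ≠ 4) (1 : K) *
      Matrix.SpecialLinearGroup.transvection (by decide : (4 : Fin 5) ≠ 3) (-1 : K) *
      Matrix.SpecialLinearGroup.transvection (by decide : (3 : Fin 5) ≠ 4) (1 : K)) ^ 2 := by
    apply Subtype.ext
    rw [pow_two]
    change Matrix.diagonal ![1, 1, 1, -1, -1] = (Matrix.transvection 3 4 (1 : K) * Matrix.transvection 4 3 (-1 : K) *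
      Matrix.transvection 3 4 (1 : K)) * (Matrix.transvection 3 4 (1 : K) * Matrix.transvection 4 3 (-1 : K) *
      Matrix.transvection 3 4 (1 : K))
    ext i j
    fin_cases i <;> fin_cases j <;>
      simp [Matrix.mul_apply, Fin.sum_univ_succ, Matrix.transvection, Matrix.one_apply, Matrix.single_apply]
  have h2 : (uu (1 : K) * vv (-1 : K) * uu (1 : K)) ^ 2 = dd (-1 : K) (neg_ne_zero.2 one_ne_zero) := by
    apply Subtype.ext
    rw [pow_two]
    change (!![1, 1; 0, 1] * !![1, 0; -1, 1] * !![1, 1; 0, 1]) * (!![1, 1; 0, 1] * !![1, 0; -1, 1] * !![1, 1; 0, 1]) =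
      !![(-1 : K), 0; 0, (-1)⁻¹]
    ext i j
    fin_cases i <;> fin_cases j <;> simp
  have h34 : vec chevE8 8 (ra 3 4) = sr 1 := by
    rw [ra34.1]
    exact vec_simple hp8 1
  have h43 : vec chevE8 8 (ra 4 3) = -sr 1 := by
    rw [ra34.2]
    exact (vec_neg hp8 (simple_lt hp8.inList (lt_rank hp8 1))).trans (congrArg Neg.neg (vec_simple hp8 1))
  have hs : sa 3 4 = 1 ∧ sa 4 3 = 1 := by decide
  rw [h1, map_pow, map_mul, map_mul, pa_tv, pa_tv, h34, h43, hs.1, hs.2, Int.cast_one, one_mul, one_mul,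
    ← sl_uu, ← sl_vv, ← map_mul, ← map_mul, ← map_pow, h2, kap, Cfsg.Agent.H162.GaussExc.sg]
  have h3 : (fun i : Fin 8 => (-1 : Kˣ) ^ ((Pi.single 1 1 : Fin 8 → ℤ) i)) = Pi.mulSingle 1 (-1 : Kˣ) := by
    funext i
    by_cases hi : i = 1
    · subst hi
      rw [Pi.single_eq_same, Pi.mulSingle_eq_same, zpow_one]
    · rw [Pi.single_eq_of_ne hi, Pi.mulSingle_eq_of_ne hi, zpow_zero]
  rw [h3, th_mulSingle]
  rfl

/-! ### The parts of `A₄` -/

theorem mem_row {q : ℕ} (hq : Rr q) (c : K) : xc hp8 (vec chevE8 8 q) c ∈ (RowS K (fun i : Fin 5 => i ≠ 4)).map (pa K) := by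
  obtain ⟨b, hb, rfl⟩ := hq
  refine ⟨Matrix.SpecialLinearGroup.transvection hb.symm ((sa 4 b : K) * c), tv_RowS _ (fun h => h rfl) _, ?_⟩
  rw [pa_tv, ← mul_assoc, ← Int.cast_mul, rta.2.2.2.1, Int.cast_one, one_mul]

theorem mem_col {q : ℕ} (hq : Rc q) (c : K) : xc hp8 (vec chevE8 8 q) c ∈ (ColS K (fun i : Fin 5 => i ≠ 4)).map (pa K) := by
  obtain ⟨b, hb, rfl⟩ := hq
  refine ⟨Matrix.SpecialLinearGroup.transvection hb ((sa b 4 : K) * c), tv_ColS _ (fun h => h rfl) _, ?_⟩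
  rw [pa_tv, ← mul_assoc, ← Int.cast_mul, rta.2.2.2.1, Int.cast_one, one_mul]

theorem Ps_dL' (A : Matrix.SpecialLinearGroup (Fin 4) K) :
    Ps K (Cor.dL A) ∈ (RowS K (fun i : Fin 5 => i = 4) ⊓ ColS K (fun i : Fin 5 => i = 4)).map (pa K) :=
  le_of_gen ((Ps K).comp Cor.dL) _ (fun a b hab c => by
    change Ps K (Cor.dL (Matrix.SpecialLinearGroup.transvection hab c)) ∈ _
    rw [dL_tv, Ps_tv, ← r8_L' a b hab]
    have hab' : a.castSucc ≠ b.castSucc := fun h => hab (Fin.castSucc_injective _ h)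
    refine ⟨Matrix.SpecialLinearGroup.transvection hab' ((sa a.castSucc b.castSucc : K) *
      ((s8 (e8 (Sum.inl a)) (e8 (Sum.inl b)) : K) * c)), ⟨tv_RowS hab' (c4 a) _, tv_ColS hab' (c4 b) _⟩, ?_⟩
    rw [pa_tv, ← mul_assoc (sa a.castSucc b.castSucc : K), ← Int.cast_mul, rta.2.2.2.1, Int.cast_one, one_mul]) A

theorem V7_le' : VJ cs8 hp8.isCartan (XX chevE8 8 K) {k | k ∈ J7} ≤
    (ColS K (fun i : Fin 5 => i ≠ 4)).map (pa K) ⊔ VJ cs8 hp8.isCartan (XX chevE8 8 K) {k | k ∈ JP} := by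
  refine RGD.Sup_le fun x hx => ?_
  obtain ⟨q, hq, rfl⟩ := (isRoot_iff hp8 _ x).1 hx.1
  obtain ⟨-, -, k, hk, h0⟩ := hx
  intro y hy
  obtain ⟨c, rfl⟩ := (mem_XX hp8 hq y).1 hy
  rcases out7p' q hq ⟨k, hk, h0⟩ with h | h
  · exact (le_sup_right : _ ≤ (ColS K (fun i : Fin 5 => i ≠ 4)).map (pa K) ⊔
      VJ cs8 hp8.isCartan (XX chevE8 8 K) {k | k ∈ JP}) (xc_mem_VJ K hq h c)
  · exact (le_sup_left : _ ≤ (ColS K (fun i : Fin 5 => i ≠ 4)).map (pa K) ⊔
      VJ cs8 hp8.isCartan (XX chevE8 8 K) {k | k ∈ JP}) (mem_col K h c)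

theorem VN7_le' : VNJ cs8 hp8.isCartan (XX chevE8 8 K) {k | k ∈ J7} ≤
    VNJ cs8 hp8.isCartan (XX chevE8 8 K) {k | k ∈ JP} ⊔ (RowS K (fun i : Fin 5 => i ≠ 4)).map (pa K) := by
  refine RGD.Sup_le fun x hx => ?_
  obtain ⟨-, -, k, hk, h0⟩ := id hx
  have hx1 : IsRoot cs8 hp8.isCartan x := NotNJ.isRoot hx
  obtain ⟨q, hq, rfl⟩ := (isRoot_iff hp8 _ x).1 hx1
  rw [Pi.neg_apply] at h0
  intro y hy
  obtain ⟨c, rfl⟩ := (mem_XX hp8 hq y).1 hy
  rcases out7n' q hq ⟨k, hk, by omega⟩ with h | h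
  · exact (le_sup_left : _ ≤ VNJ cs8 hp8.isCartan (XX chevE8 8 K) {k | k ∈ JP} ⊔
      (RowS K (fun i : Fin 5 => i ≠ 4)).map (pa K)) (xc_mem_VNJ K hq h c)
  · exact (le_sup_right : _ ≤ VNJ cs8 hp8.isCartan (XX chevE8 8 K) {k | k ∈ JP} ⊔
      (RowS K (fun i : Fin 5 => i ≠ 4)).map (pa K)) (mem_row K h c)

end sign

/-- the `A₄` part is not scalar -/
theorem part_ne {K : Type u} [Field K] (h2 : (2 : K) ≠ 0) {L C U : Matrix.SpecialLinearGroup (Fin 5) K}
    (hL : L ∈ RowS K (fun i : Fin 5 => i ≠ 4))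
    (hC : C ∈ RowS K (fun i : Fin 5 => i = 4) ⊓ ColS K (fun i : Fin 5 => i = 4))
    (hU : U ∈ ColS K (fun i : Fin 5 => i ≠ 4)) : (L * C * Hm K * U).1 ≠ 1 := by
  intro h
  have h1 : ∀ i j : Fin 5, i ≠ 4 → j ≠ 4 → (C * Hm K).1 i j = (1 : Matrix (Fin 5) (Fin 5) K) i j := by
    intro i j hi hj
    have h3 : (L * C * Hm K * U).1 i j = (L * C * Hm K).1 i j := by
      change ((L * C * Hm K).1 * U.1) i j = _
      rw [Matrix.mul_apply]
      simp only [hU j hj]
      rw [← Matrix.mul_apply, Matrix.mul_one]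
    have h4 : (L * C * Hm K).1 i j = (C * Hm K).1 i j := by
      rw [mul_assoc]
      change (L.1 * (C * Hm K).1) i j = _
      rw [Matrix.mul_apply]
      simp only [hL i hi]
      rw [← Matrix.mul_apply, Matrix.one_mul]
    rw [← h4, ← h3, h]
  have h5 : ∀ i j, (C * Hm K).1 i j = C.1 i j * (![1, 1, 1, -1, -1] : Fin 5 → K) j := fun i j => by
    change (C.1 * (Hm K).1) i j = _
    rw [show (Hm K).1 = Matrix.diagonal ![1, 1, 1, -1, -1] from rfl, Matrix.mul_diagonal]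
  have h6 : (C * Hm K).1 = Matrix.diagonal ![1, 1, 1, 1, -1] := by
    ext i j
    by_cases hi : i = 4
    · subst hi
      rw [h5, hC.1 4 rfl j]
      fin_cases j <;> simp [Matrix.one_apply]
    · by_cases hj : j = 4
      · subst hj
        rw [h5, hC.2 4 rfl i]
        fin_cases i <;> first | exact absurd rfl hi | simp [Matrix.one_apply]
      · rw [h1 i j hi hj]
        fin_cases i <;> fin_cases j <;> first | exact absurd rfl hi | exact absurd rfl hj | simp [Matrix.one_apply]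
  have h7 := (C * Hm K).2
  rw [h6, Matrix.det_diagonal] at h7
  simp [Fin.prod_univ_succ] at h7
  exact h2 (by linear_combination -h7)

/-! ### The classes in `SL_5(3)`, `SL_4(3)` -/

section cls

variable {K : Type u} [Field K] [Finite K]

theorem five' (hK : Nat.card K = 3) (A : Matrix.SpecialLinearGroup (Fin 5) K) (hA : A.1 ≠ 1) :
    ∃ X Y : Matrix.SpecialLinearGroup (Fin 5) K, A = X * Y ∧
    (X : Matrix (Fin 5) (Fin 5) K).charpoly = H126.PwO.Five.pF K ∧
    (Y : Matrix (Fin 5) (Fin 5) K).charpoly = H126.PwO.Five.pF K := by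
  have : Fact (Nat.Prime 3) := ⟨Nat.prime_three⟩
  obtain ⟨hch, hall⟩ := H374.Ore.Sl3.exists_cast (K := K) hK
  have h3 : (3 : K) = 0 := by
    have : ((3 : ℕ) : K) = 0 := CharP.cast_eq_zero K 3
    exact_mod_cast this
  have hs : ∀ c : K, A.1 ≠ c • (1 : Matrix (Fin 5) (Fin 5) K) := by
    intro c hc
    have hd : c ^ 5 = 1 := by
      have h1 := A.2
      rw [hc, Matrix.det_smul, Matrix.det_one, mul_one, Fintype.card_fin] at h1
      exact h1
    have hc1 : c = 1 := by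
      obtain ⟨k, hk, rfl⟩ := hall c
      interval_cases k
      · norm_num at hd
      · norm_num
      · exfalso
        have h5 : (2 : K) ^ 5 = 1 := by exact_mod_cast hd
        exact one_ne_zero (α := K) (by linear_combination h5 - 10 * h3)
    exact hA (by rw [hc, hc1, one_smul])
  obtain ⟨X, Y, h1, h2, h4⟩ := H126.PwO.Five.p5_3 hK A.1 A.2 hs
  have hX : X.det = 1 := by
    rw [Matrix.det_eq_sign_charpoly_coeff, h2, Fintype.card_fin, H126.PwO.Five.pF]
    simp only [Polynomial.coeff_add, Polynomial.coeff_X_pow, Polynomial.coeff_ofNat_mul, Polynomial.coeff_X,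
      Polynomial.coeff_ofNat_zero]
    norm_num
    linear_combination (-1 : K) * h3
  have hY : Y.det = 1 := by
    have h5 := congrArg Matrix.det h1
    rw [Matrix.det_mul, hX, one_mul, A.2] at h5
    exact h5.symm
  exact ⟨⟨X, hX⟩, ⟨Y, hY⟩, Subtype.ext h1, h2, h4⟩

theorem four' (hK : Nat.card K = 3) (A : Matrix.SpecialLinearGroup (Fin 4) K) (hA : Cor.Gd A.1) :
    ∃ X Y : Matrix.SpecialLinearGroup (Fin 4) K, A = X * Y ∧
    (X : Matrix (Fin 4) (Fin 4) K).charpoly = Four.pF K ∧ (Y : Matrix (Fin 4) (Fin 4) K).charpoly = Four.pF K := by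
  obtain ⟨X, Y, h1, h2, h4⟩ := Four.p4_3 hK A.1 A.2 hA.1 hA.2
  have hd : ∀ M : Matrix (Fin 4) (Fin 4) K, M.charpoly = Four.pF K → M.det = 1 := by
    intro M hM
    rw [Matrix.det_eq_sign_charpoly_coeff, hM, Fintype.card_fin, Four.pF]
    simp
    norm_num
  exact ⟨⟨X, hd X h2⟩, ⟨Y, hd Y h4⟩, Subtype.ext h1, h2, h4⟩

theorem class5 (hK : Nat.card K = 3) : ∃ c : Matrix.SpecialLinearGroup (Fin 5) K,
    Irreducible (c : Matrix (Fin 5) (Fin 5) K).charpoly ∧ c ^ 11 = 1 ∧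
    (∀ X : Matrix.SpecialLinearGroup (Fin 5) K, (X : Matrix (Fin 5) (Fin 5) K).charpoly = H126.PwO.Five.pF K →
      ∃ g, X = g * c * g⁻¹) := by
  obtain ⟨X, Y, -, h1, h2⟩ := five' hK (Matrix.SpecialLinearGroup.transvection (by decide : (0 : Fin 5) ≠ 1) (1 : K)) (by
    intro h
    have h1 := congrFun (congrFun h 0) 1
    change Matrix.transvection 0 1 (1 : K) 0 1 = _ at h1
    simp [Matrix.transvection] at h1)
  have : Fact (Nat.Prime 3) := ⟨Nat.prime_three⟩
  obtain ⟨hch, -⟩ := H374.Ore.Sl3.exists_cast (K := K) hK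
  have hirr := H126.PwO.Five.pF_irr (F := K) hK
  refine ⟨X, by rw [h1]; exact hirr, ?_, fun Z hZ => ?_⟩
  · apply Subtype.ext
    change X.1 ^ 11 = 1
    exact pow_of_dvd h1 H126.PwO.Five.pF_dvd
  · exact H150.MF.exists_conj (H150.MF.cls_of_irreducible (by rw [h1]; exact hirr))
      (H150.MF.cls_of_irreducible (by rw [hZ]; exact hirr)) (by rw [h1, hZ])

theorem class4 (hK : Nat.card K = 3) (h2 : (2 : K) ≠ 0) : ∃ c : Matrix.SpecialLinearGroup (Fin 4) K,
    Irreducible (c : Matrix (Fin 4) (Fin 4) K).charpoly ∧ c ^ 5 = 1 ∧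
    (∀ X : Matrix.SpecialLinearGroup (Fin 4) K, (X : Matrix (Fin 4) (Fin 4) K).charpoly = Four.pF K →
      ∃ g, X = g * c * g⁻¹) := by
  obtain ⟨X, Y, -, h1, h2⟩ := four' hK (1 : Matrix.SpecialLinearGroup (Fin 4) K) (Cor.gd_one h2)
  have : Fact (Nat.Prime 3) := ⟨Nat.prime_three⟩
  obtain ⟨hch, -⟩ := H374.Ore.Sl3.exists_cast (K := K) hK
  have hirr := Four.pF_irr (F := K) hK
  refine ⟨X, by rw [h1]; exact hirr, ?_, fun Z hZ => ?_⟩
  · apply Subtype.ext
    change X.1 ^ 5 = 1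
    exact pow_of_dvd h1 Four.pF_dvd
  · exact H150.MF.exists_conj (H150.MF.cls_of_irreducible (by rw [h1]; exact hirr))
      (H150.MF.cls_of_irreducible (by rw [hZ]; exact hirr)) (by rw [h1, hZ])

end cls

end Cfsg.Agent.H122.SX
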