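import Cfsg.Agent.H122.SX.E127
import Cfsg.Agent.H122.SX.EThreeA

/-!
# The Levi subgroups `A₇` and `A₆ A₁` of `E₈(q)`, all `q`: the frame (helper122, S2452)

* `V6_le'`, `VN6_le'` : the unipotent radical of `A₇` in that of `A₆ A₁` times the first row (column) of `SL_7`;
* `Ps_dR'` : the `6 × 6` block;
* `hz`, `hz_mem`, `hz_p8`, `p7_Hz` : the torus element `h_{α₂}(z)`.
-/

set_option autoImplicit false
set_option linter.unusedSectionVars false

namespace Cfsg.Agent.H122.SX.E127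

open CoxeterSystem Cfsg.Agent.ChevalleyStructure.CoxeterGeom Cfsg.Agent.Tits.Roots Cfsg.Agent.Tits.Core
  Cfsg.Agent.Nodes.Reps Cfsg.Agent.Nodes.BNOf Cfsg.Agent.Nodes.RGDLib Cfsg.Agent.Nodes.Bruhat
  Cfsg.Agent.Nodes.OppDec Cfsg.Agent.Nodes.LeviDec Cfsg.Agent.Nodes.KindChev Cfsg.Agent.Nodes.ChevCls
  Cfsg.Agent.OddHalf.NI.ModelChev Cfsg.Agent.Nodes.StabComb
  Cfsg.Agent.H162.GaussDec Cfsg.Agent.H162.GaussLevi Cfsg.Agent.H162.GaussSL Cfsg.Agent.H162.GaussReg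
  Cfsg.Agent.H162.GaussPQ
  Cfsg.Agent.H928.Ore.Frame
open Cfsg.Lie Cfsg.Agent.ChevalleyStructure Cfsg.Agent.ChevalleyStructure.Elts
  Cfsg.Agent.ChevalleyStructure.RootVec Cfsg.Agent.ChevalleyStructure.NPerm
  Cfsg.Agent.ChevalleyStructure.CoxeterGeomTypes Cfsg.Agent.Nodes.RGDChev Cfsg.Agent.KFacts.RgdChevCoord
open Cfsg.Agent.FixBN.FieldRGD (uu vv dd ww)
open Cfsg.Agent.TitsThree.KExcRT Cfsg.Agent.AGraded
open Cfsg.Agent.H78.Pw Cfsg.Agent.H85.Pw Cfsg.Agent.H194.Pw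
open Cfsg.Agent.H150.E6T (le_of_gen)
open Cfsg.Agent.H162.GaussExc (coord act_sg sg_mem)
open Cfsg.Agent.H122.Pw Cfsg.Agent.H122.SX
open scoped MatrixGroups

universe u

/-! ### First row and first column -/

/-- the first row -/
def Rr7 (q : ℕ) : Prop := ∃ b : Fin 7, b ≠ 0 ∧ r7 0 b = q

/-- the first column -/
def Rc7 (q : ℕ) : Prop := ∃ b : Fin 7, b ≠ 0 ∧ r7 b 0 = q

instance decRr7 (q : ℕ) : Decidable (Rr7 q) := by
  unfold Rr7
  refine @Fintype.decidableExistsFintype _ _ (fun b => ?_) _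
  infer_instance

instance decRc7 (q : ℕ) : Decidable (Rc7 q) := by
  unfold Rc7
  refine @Fintype.decidableExistsFintype _ _ (fun b => ?_) _
  infer_instance

theorem out6n' : ∀ q < chevE8.nroots, (∃ k : Fin 8, k ∉ J7 ∧ vec chevE8 8 q k < 0) →
    (∃ k : Fin 8, k ∉ J6 ∧ vec chevE8 8 q k < 0) ∨ Rc7 q := by
  intro q hq
  revert q
  refine @of_decide_eq_true _ ?_ ?_
  · refine @Nat.decidableBallLT _ _ fun q _ => ?_
    infer_instance
  · decide +kernel

theorem out6p' : ∀ q < chevE8.nroots, (∃ k : Fin 8, k ∉ J7 ∧ 0 < vec chevE8 8 q k) →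
    (∃ k : Fin 8, k ∉ J6 ∧ 0 < vec chevE8 8 q k) ∨ Rr7 q := by
  intro q hq
  revert q
  refine @of_decide_eq_true _ ?_ ?_
  · refine @Nat.decidableBallLT _ _ fun q _ => ?_
    infer_instance
  · decide +kernel

theorem r8_R7' : ∀ a b : Fin 6, a ≠ b → r8 (e26 (Sum.inr a)) (e26 (Sum.inr b)) = r7 a.succ b.succ ∧
    s8 (e26 (Sum.inr a)) (e26 (Sum.inr b)) = s7 a.succ b.succ := by decide +kernel

section

variable (K : Type u) [Field K]

theorem mem_row7 {q : ℕ} (hq : Rr7 q) (c : K) :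
    xc hp8 (vec chevE8 8 q) c ∈ (RowS K (fun i : Fin 7 => i ≠ 0)).map (p7 K) := by
  obtain ⟨b, hb, rfl⟩ := hq
  refine ⟨Matrix.SpecialLinearGroup.transvection hb.symm ((s7 0 b : K) * c), tv_RowS _ (fun h => h rfl) _, ?_⟩
  rw [p7_tv, ← mul_assoc, ← Int.cast_mul, rt7.2.2.2.1, Int.cast_one, one_mul]

theorem mem_col7 {q : ℕ} (hq : Rc7 q) (c : K) :
    xc hp8 (vec chevE8 8 q) c ∈ (ColS K (fun i : Fin 7 => i ≠ 0)).map (p7 K) := by
  obtain ⟨b, hb, rfl⟩ := hq
  refine ⟨Matrix.SpecialLinearGroup.transvection hb ((s7 b 0 : K) * c), tv_ColS _ (fun h => h rfl) _, ?_⟩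
  rw [p7_tv, ← mul_assoc, ← Int.cast_mul, rt7.2.2.2.1, Int.cast_one, one_mul]

/-- **(F2)** -/
theorem V6_le' : VJ cs8 hp8.isCartan (XX chevE8 8 K) {k | k ∈ J7} ≤
    (RowS K (fun i : Fin 7 => i ≠ 0)).map (p7 K) ⊔ VJ cs8 hp8.isCartan (XX chevE8 8 K) {k | k ∈ J6} := by
  refine RGD.Sup_le fun x hx => ?_
  obtain ⟨q, hq, rfl⟩ := (isRoot_iff hp8 _ x).1 hx.1
  obtain ⟨-, -, k, hk, h0⟩ := hx
  intro y hy
  obtain ⟨c, rfl⟩ := (mem_XX hp8 hq y).1 hy
  rcases out6p' q hq ⟨k, hk, h0⟩ with h | h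
  · exact (le_sup_right : _ ≤ (RowS K (fun i : Fin 7 => i ≠ 0)).map (p7 K) ⊔
      VJ cs8 hp8.isCartan (XX chevE8 8 K) {k | k ∈ J6}) (xc_VJ K hq h c)
  · exact (le_sup_left : _ ≤ (RowS K (fun i : Fin 7 => i ≠ 0)).map (p7 K) ⊔
      VJ cs8 hp8.isCartan (XX chevE8 8 K) {k | k ∈ J6}) (mem_row7 K h c)

/-- **(F2)** -/
theorem VN6_le' : VNJ cs8 hp8.isCartan (XX chevE8 8 K) {k | k ∈ J7} ≤
    VNJ cs8 hp8.isCartan (XX chevE8 8 K) {k | k ∈ J6} ⊔ (ColS K (fun i : Fin 7 => i ≠ 0)).map (p7 K) := by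
  refine RGD.Sup_le fun x hx => ?_
  obtain ⟨-, -, k, hk, h0⟩ := id hx
  have hx1 : IsRoot cs8 hp8.isCartan x := NotNJ.isRoot hx
  obtain ⟨q, hq, rfl⟩ := (isRoot_iff hp8 _ x).1 hx1
  rw [Pi.neg_apply] at h0
  intro y hy
  obtain ⟨c, rfl⟩ := (mem_XX hp8 hq y).1 hy
  rcases out6n' q hq ⟨k, hk, by omega⟩ with h | h
  · exact (le_sup_left : _ ≤ VNJ cs8 hp8.isCartan (XX chevE8 8 K) {k | k ∈ J6} ⊔
      (ColS K (fun i : Fin 7 => i ≠ 0)).map (p7 K)) (xc_VNJ K hq h c)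
  · exact (le_sup_right : _ ≤ VNJ cs8 hp8.isCartan (XX chevE8 8 K) {k | k ∈ J6} ⊔
      (ColS K (fun i : Fin 7 => i ≠ 0)).map (p7 K)) (mem_col7 K h c)

/-! ### The `6 × 6` block -/

/-- the indices -/
def e16 : Fin 1 ⊕ Fin 6 ≃ Fin 7 := finSumFinEquiv

theorem e16_inr (a : Fin 6) : e16 (Sum.inr a) = a.succ := by
  revert a
  decide

theorem e16_inl (a : Fin 1) : e16 (Sum.inl a) = 0 := by
  revert a
  decide

variable {K} in
/-- `C` on the indices `1, …, 6` -/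
def emb : Matrix.SpecialLinearGroup (Fin 6) K →* Matrix.SpecialLinearGroup (Fin 7) K where
  toFun C := ⟨Matrix.reindex e16 e16 (Matrix.fromBlocks 1 0 0 C.1), by
    rw [Matrix.det_reindex_self, Matrix.det_fromBlocks_zero₂₁, Matrix.det_one, one_mul]; exact C.2⟩
  map_one' := by
    apply Subtype.ext
    change Matrix.reindex e16 e16 (Matrix.fromBlocks 1 0 0 1) = 1
    rw [Matrix.fromBlocks_one, Matrix.reindex_apply, Matrix.submatrix_one_equiv]
  map_mul' A B := by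
    apply Subtype.ext
    change Matrix.reindex e16 e16 (Matrix.fromBlocks 1 0 0 (A.1 * B.1)) =
      Matrix.reindex e16 e16 (Matrix.fromBlocks 1 0 0 A.1) * Matrix.reindex e16 e16 (Matrix.fromBlocks 1 0 0 B.1)
    rw [Matrix.reindex_apply, Matrix.reindex_apply, Matrix.reindex_apply, Matrix.submatrix_mul_equiv,
      Matrix.fromBlocks_multiply]
    simp

variable {K}

theorem emb_val (C : Matrix.SpecialLinearGroup (Fin 6) K) :
    (emb C).1 = Matrix.reindex e16 e16 (Matrix.fromBlocks 1 0 0 C.1) := rfl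

theorem emb_succ (C : Matrix.SpecialLinearGroup (Fin 6) K) (i j : Fin 6) : (emb C).1 i.succ j.succ = C.1 i j := by
  rw [emb_val, ← e16_inr, ← e16_inr]
  simp

theorem emb_zero_zero (C : Matrix.SpecialLinearGroup (Fin 6) K) : (emb C).1 0 0 = 1 := by
  rw [emb_val, ← e16_inl 0]
  simp

theorem emb_zero_succ (C : Matrix.SpecialLinearGroup (Fin 6) K) (j : Fin 6) : (emb C).1 0 j.succ = 0 := by
  rw [emb_val, ← e16_inr, ← e16_inl 0]
  simp

theorem emb_succ_zero (C : Matrix.SpecialLinearGroup (Fin 6) K) (j : Fin 6) : (emb C).1 j.succ 0 = 0 := by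
  rw [emb_val, ← e16_inr, ← e16_inl 0]
  simp

theorem emb_tv {a b : Fin 6} (hab : a ≠ b) (c : K) : emb (Matrix.SpecialLinearGroup.transvection hab c) =
    Matrix.SpecialLinearGroup.transvection ((Fin.succ_injective 6).ne hab) c := by
  apply Subtype.ext
  ext i j
  refine Fin.cases ?_ (fun i => ?_) i
  · refine Fin.cases ?_ (fun j => ?_) j
    · rw [emb_zero_zero]
      change _ = Matrix.transvection a.succ b.succ c 0 0
      rw [Matrix.transvection, Matrix.add_apply, Matrix.one_apply_eq, Matrix.single_apply, if_neg, add_zero]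
      exact fun h => Fin.succ_ne_zero _ h.1
    · rw [emb_zero_succ]
      change _ = Matrix.transvection a.succ b.succ c 0 j.succ
      rw [Matrix.transvection, Matrix.add_apply, Matrix.one_apply_ne (Fin.succ_ne_zero j).symm, Matrix.single_apply,
        if_neg, add_zero]
      exact fun h => Fin.succ_ne_zero _ h.1
  · refine Fin.cases ?_ (fun j => ?_) j
    · rw [emb_succ_zero]
      change _ = Matrix.transvection a.succ b.succ c i.succ 0
      rw [Matrix.transvection, Matrix.add_apply, Matrix.one_apply_ne (Fin.succ_ne_zero i), Matrix.single_apply,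
        if_neg, add_zero]
      exact fun h => Fin.succ_ne_zero _ h.2
    · rw [emb_succ]
      change Matrix.transvection a b c i j = Matrix.transvection a.succ b.succ c i.succ j.succ
      rw [Matrix.transvection, Matrix.transvection, Matrix.add_apply, Matrix.add_apply, Matrix.one_apply,
        Matrix.one_apply, Matrix.single_apply, Matrix.single_apply]
      simp only [Fin.succ_inj]

variable (K)

/-- **(F3)** -/
theorem Ps_dR' (C : Matrix.SpecialLinearGroup (Fin 6) K) : Ps K (dR C) = p7 K (emb C) := by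
  have h := le_of_gen (MonoidHom.id (Matrix.SpecialLinearGroup (Fin 6) K)) (((Ps K).comp dR).eqLocus ((p7 K).comp emb))
    (fun a b hab c => by
      change Ps K (dR (Matrix.SpecialLinearGroup.transvection hab c)) =
        p7 K (emb (Matrix.SpecialLinearGroup.transvection hab c))
      rw [dR_tv, Ps_tv, emb_tv, p7_tv, (r8_R7' a b hab).1, (r8_R7' a b hab).2]) C
  exact h

/-! ### The torus element -/

variable {K}

/-- `h_{α₂}(z)` -/
noncomputable def hz (z : Kˣ) : ↥(chevE8.group K) := Cfsg.Agent.H162.GaussExc.sg hp8 (Pi.single 1 1) z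

theorem hz_mem (z : Kˣ) : hz z ∈ TT chevE8 K := sg_mem hp8 _ _

/-- `diag(1, 1, 1, z, …, z)` -/
def dz (z : Kˣ) : Fin 8 → K := ![1, 1, 1, z, z, z, z, z]

theorem dz_inv (z : Kˣ) (i : Fin 8) : dz z i * dz z⁻¹ i = 1 := by
  fin_cases i <;> simp [dz]

theorem dz_inv' (z : Kˣ) (i : Fin 8) : dz z⁻¹ i * dz z i = 1 := by
  rw [mul_comm]; exact dz_inv z i

theorem dz_mul (z : Kˣ) : Matrix.diagonal (dz z) * Matrix.diagonal (dz z⁻¹) = 1 := by
  rw [Matrix.diagonal_mul_diagonal]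
  simp only [dz_inv]
  exact Matrix.diagonal_one

theorem dz_mul' (z : Kˣ) : Matrix.diagonal (dz z⁻¹) * Matrix.diagonal (dz z) = 1 := by
  rw [Matrix.diagonal_mul_diagonal]
  simp only [dz_inv']
  exact Matrix.diagonal_one

/-- conjugation by `diag(1, 1, 1, z, …, z)` -/
def Dz (z : Kˣ) : Matrix.SpecialLinearGroup (Fin 8) K →* Matrix.SpecialLinearGroup (Fin 8) K where
  toFun A := ⟨Matrix.diagonal (dz z) * A.1 * Matrix.diagonal (dz z⁻¹), by
    rw [Matrix.det_mul, Matrix.det_mul, A.2, mul_one, ← Matrix.det_mul, dz_mul, Matrix.det_one]⟩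
  map_one' := by
    apply Subtype.ext
    change Matrix.diagonal (dz z) * 1 * Matrix.diagonal (dz z⁻¹) = 1
    rw [Matrix.mul_one, dz_mul]
  map_mul' A B := by
    apply Subtype.ext
    change Matrix.diagonal (dz z) * (A.1 * B.1) * Matrix.diagonal (dz z⁻¹) =
      (Matrix.diagonal (dz z) * A.1 * Matrix.diagonal (dz z⁻¹)) * (Matrix.diagonal (dz z) * B.1 * Matrix.diagonal (dz z⁻¹))
    calc Matrix.diagonal (dz z) * (A.1 * B.1) * Matrix.diagonal (dz z⁻¹) =
        Matrix.diagonal (dz z) * A.1 * 1 * B.1 * Matrix.diagonal (dz z⁻¹) := by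
          rw [Matrix.mul_one]; simp only [Matrix.mul_assoc]
      _ = _ := by rw [← dz_mul' z]; simp only [Matrix.mul_assoc]

theorem Dz_val (z : Kˣ) (A : Matrix.SpecialLinearGroup (Fin 8) K) :
    (Dz z A).1 = Matrix.diagonal (dz z) * A.1 * Matrix.diagonal (dz z⁻¹) := rfl

theorem Dz_apply (z : Kˣ) (A : Matrix.SpecialLinearGroup (Fin 8) K) (i j : Fin 8) :
    (Dz z A).1 i j = dz z i * A.1 i j * dz z⁻¹ j := by
  rw [Dz_val, Matrix.mul_diagonal, Matrix.diagonal_mul]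

theorem Dz_tv (z : Kˣ) {a b : Fin 8} (hab : a ≠ b) (c : K) : Dz z (Matrix.SpecialLinearGroup.transvection hab c) =
    Matrix.SpecialLinearGroup.transvection hab (dz z a * c * dz z⁻¹ b) := by
  apply Subtype.ext
  ext i j
  rw [Dz_apply]
  change _ * Matrix.transvection a b c i j * _ = Matrix.transvection a b _ i j
  rw [Matrix.transvection, Matrix.transvection, Matrix.add_apply, Matrix.add_apply, Matrix.single_apply,
    Matrix.single_apply, Matrix.one_apply]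
  by_cases h : a = i ∧ b = j
  · obtain ⟨rfl, rfl⟩ := h
    rw [if_neg hab, if_pos ⟨rfl, rfl⟩, if_pos ⟨rfl, rfl⟩, zero_add, zero_add]
  · rw [if_neg h, if_neg h]
    by_cases hij : i = j
    · subst hij
      rw [if_pos rfl, add_zero, mul_one, dz_inv]
    · rw [if_neg hij, add_zero, mul_zero, zero_mul]

theorem zpow_dl (z : Kˣ) (a b : Fin 8) : ((z ^ (-dl a + dl b) : Kˣ) : K) = dz z a * dz z⁻¹ b := by
  fin_cases a <;> fin_cases b <;> simp [dl, dz]

theorem hz_tv (z : Kˣ) {a b : Fin 8} (hab : a ≠ b) (c : K) : hz z * xc hp8 (vec chevE8 8 (r8 a b)) c * (hz z)⁻¹ =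
    xc hp8 (vec chevE8 8 (r8 a b)) (dz z a * c * dz z⁻¹ b) := by
  have h1 : ∑ i : Fin 8, (Pi.single 1 1 : Fin 8 → ℤ) i * chevE8.cartan (i : ℕ) (r8 a b) = -dl a + dl b := by
    rw [Finset.sum_eq_single 1]
    · rw [Pi.single_eq_same, one_mul]
      exact (cart8 a b hab).trans (by rw [sub_eq_add_neg, add_comm])
    · intro i _ hi
      rw [Pi.single_eq_of_ne hi, zero_mul]
    · intro h
      exact absurd (Finset.mem_univ _) h
  have h2 : ((z ^ (-dl a + dl b) : Kˣ) : K) * c = dz z a * c * dz z⁻¹ b := by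
    rw [zpow_dl]
    ring
  rw [hz, act_sg hp8 _ _ (rt8.1 a b hab), h1, h2]

/-- **(F4)** -/
theorem hz_p8 (z : Kˣ) (A : Matrix.SpecialLinearGroup (Fin 8) K) : hz z * p8 K A * (hz z)⁻¹ = p8 K (Dz z A) := by
  have h := le_of_gen (MonoidHom.id (Matrix.SpecialLinearGroup (Fin 8) K))
    (((MulAut.conj (hz z)).toMonoidHom.comp (p8 K)).eqLocus ((p8 K).comp (Dz z)))
    (fun a b hab c => by
      change hz z * p8 K (Matrix.SpecialLinearGroup.transvection hab c) * (hz z)⁻¹ =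
        p8 K (Dz z (Matrix.SpecialLinearGroup.transvection hab c))
      rw [Dz_tv, p8_tv, p8_tv, hz_tv z hab]
      congr 1
      ring) A
  exact h

/-- `diag(z, z⁻¹, 1, …)` -/
def Hz (z : Kˣ) : Matrix.SpecialLinearGroup (Fin 7) K :=
  H482.Ore.Fix.hab' (0 : Fin 6).castSucc (0 : Fin 6).succ (Cfsg.Agent.H162.GaussPQ.cs_ne 0) z

theorem Hz_val (z : Kˣ) : (Hz z).1 = Matrix.diagonal ![(z : K), ((z⁻¹ : Kˣ) : K), 1, 1, 1, 1, 1] := by
  change Matrix.diagonal _ = _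
  congr 1
  funext k
  fin_cases k <;> rfl

/-- **(F4)** -/
theorem p7_Hz (z : Kˣ) : p7 K (Hz z) = hz z := by
  rw [Hz, H482.Ore.Fix.phi_hab hp8 (j := j7) ⟨sim7.1, sim7.2⟩ (p7_tv K) (fun a => by
    rw [← Int.cast_mul, rt7.2.2.2.2.1, rt7.2.2.2.1, Int.cast_one]) 0 z]
  have h3 : (fun i : Fin 8 => z ^ ((Pi.single 1 1 : Fin 8 → ℤ) i)) = Pi.mulSingle 1 z := by
    funext i
    by_cases hi : i = 1
    · subst hi
      rw [Pi.single_eq_same, Pi.mulSingle_eq_same, zpow_one]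
    · rw [Pi.single_eq_of_ne hi, Pi.mulSingle_eq_of_ne hi, zpow_zero]
  rw [hz, Cfsg.Agent.H162.GaussExc.sg, h3, th_mulSingle, sl_dd]
  rfl

end

end Cfsg.Agent.H122.SX.E127
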