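import Cfsg.Agent.H122.SX.EBig
import Cfsg.Agent.H240.TW.Kick
import Cfsg.Agent.H563.TW.Fix7

/-!
# `E₈(q)`, `q ≥ 3`: `PP` from the class in `SL_7(q)` (helper122, S2452)
-/

set_option autoImplicit false
set_option linter.unusedSectionVars false

namespace Cfsg.Agent.H122.SX.E127

open Cfsg.Lie Cfsg.Agent.ChevalleyStructure
open scoped MatrixGroups

universe u

/-- **`E₈(q)` from the class in `SL_7(q)`.** -/
theorem pp_of_seven {K : Type u} [Field K] [Finite K] (h3 : 3 ≤ Nat.card K)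
    {c : Matrix.SpecialLinearGroup (Fin 7) K} {r : ℕ} (hr : r.Prime) (hr6 : Nat.Coprime r 6) (hr7 : r ≠ 7)
    (hd : r ∣ ∑ a ∈ Finset.range 7, Nat.card K ^ a) (hirr : Irreducible (c : Matrix (Fin 7) (Fin 7) K).charpoly)
    (hc : c ^ r = 1)
    (hcc : ∀ B : Matrix.SpecialLinearGroup (Fin 7) K, (∀ a : K, B.1 ≠ a • (1 : Matrix (Fin 7) (Fin 7) K)) →
      ∃ g h, B = (g * c * g⁻¹) * (h * c * h⁻¹)) :
    Cfsg.Agent.H494.TC.PP ↥(chevE8.group K) := by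
  obtain ⟨n1, n2⟩ := Cfsg.Agent.H563.TW.nf7 hr hr7 hd hirr hc
  refine pp_of_boxes (fun g hg => ?_) hr hr6 hc hcc n1 n2
  obtain ⟨x, z, A, v, hv, u, hu, e, h⟩ := Cfsg.Agent.H240.TW.kick h3 hg
  exact ⟨x, v, u, A, z, hv, hu, e, h⟩

end Cfsg.Agent.H122.SX.E127
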