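import Cfsg.Agent.H122.SX.EThreeA
import Cfsg.Agent.H777.T6.Defs

/-!
# `E₈(3)` : every `g ≠ 1` is a product of two elements of one class of elements of order dividing `55` (helper122, S2464)

The Levi subgroups of type `A₇` (nodes `1, 3, 4, 5, 6, 7, 8`) and `A₄ A₃` (without node `5`), and the Gauss decomposition
with torus part `h_{α₂}(-1)`: the `A₄` part has a corner of determinant `-1`, so it is not scalar, and the `A₃` part is moved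
off the transvections by a conjugation in `A₇`.
-/

set_option autoImplicit false
set_option linter.unusedSectionVars false

namespace Cfsg.Agent.H122.SX

open CoxeterSystem Cfsg.Agent.ChevalleyStructure.CoxeterGeom Cfsg.Agent.Tits.Roots Cfsg.Agent.Tits.Core
  Cfsg.Agent.Nodes.Reps Cfsg.Agent.Nodes.BNOf Cfsg.Agent.Nodes.RGDLib Cfsg.Agent.Nodes.Bruhat
  Cfsg.Agent.Nodes.OppDec Cfsg.Agent.Nodes.LeviDec Cfsg.Agent.Nodes.KindChev Cfsg.Agent.Nodes.ChevCls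
  Cfsg.Agent.OddHalf.NI.ModelChev Cfsg.Agent.Nodes.StabComb
  Cfsg.Agent.H162.GaussDec Cfsg.Agent.H162.GaussLevi Cfsg.Agent.H162.GaussSL Cfsg.Agent.H162.GaussReg
  Cfsg.Agent.H162.GaussPQ
  Cfsg.Agent.H928.Ore.Frame
open Cfsg.Lie Cfsg.Agent.ChevalleyStructure Cfsg.Agent.ChevalleyStructure.Elts
  Cfsg.Agent.ChevalleyStructure.RootVec Cfsg.Agent.ChevalleyStructure.NPerm
  Cfsg.Agent.ChevalleyStructure.CoxeterGeomTypes Cfsg.Agent.Nodes.RGDChev Cfsg.Agent.KFacts.RgdChevCoord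
open Cfsg.Agent.FixBN.FieldRGD (uu vv dd ww)
open Cfsg.Agent.TitsThree.KExcRT Cfsg.Agent.AGraded
open Cfsg.Agent.H78.Pw Cfsg.Agent.H85.Pw Cfsg.Agent.H194.Pw
open Cfsg.Agent.H150.E6T (le_of_gen)
open Cfsg.Agent.H162.GaussExc (coord act_sg sg_mem)
open Cfsg.Agent.H122.Pw
open scoped MatrixGroups

universe u

variable {K : Type u} [Field K] [Finite K]

/-- **`E₈(3)`.** -/
theorem fixedE (hK : Nat.card K = 3) : ∃ x : ↥(chevE8.group K), x ^ 55 = 1 ∧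
    ∀ g : ↥(chevE8.group K), g ≠ 1 → ∃ u v : ↥(chevE8.group K), g = (u * x * u⁻¹) * (v * x * v⁻¹) := by
  have hS := Cfsg.Agent.S1054.result (F := K) chevE8 (by simp)
  obtain ⟨p, hpc⟩ := CharP.exists K
  have : Fact p.Prime := ⟨(CharP.char_is_prime_or_zero K p).resolve_right (CharP.char_ne_zero_of_finite K p)⟩
  have h2 : (2 : K) ≠ 0 := by
    have : Fact (Nat.Prime 3) := ⟨Nat.prime_three⟩
    obtain ⟨hch, -⟩ := H374.Ore.Sl3.exists_cast (K := K) hK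
    have h3 : (3 : K) = 0 := by
      have : ((3 : ℕ) : K) = 0 := CharP.cast_eq_zero K 3
      exact_mod_cast this
    intro h
    exact one_ne_zero (α := K) (by linear_combination h3 - h)
  have := finite_W hp8 cs8
  have : Nonempty (Fin 8) := ⟨0⟩
  obtain ⟨c5, hc5, hc5o, hc5c⟩ := class5 hK
  obtain ⟨c4, hc4, hc4o, hc4c⟩ := class4 hK h2
  have R := rgd (K := K) hp8 cs8 p
  refine ⟨PhP K (c5, c4), ?_, fun g hg => ?_⟩
  · rw [← map_pow]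
    have : (c5, c4) ^ 55 = 1 := by
      refine Prod.ext ?_ ?_
      · change c5 ^ (11 * 5) = 1
        rw [pow_mul, hc5o, one_pow]
      · change c4 ^ (5 * 11) = 1
        rw [pow_mul, hc4o, one_pow]
    rw [this, map_one]
  obtain ⟨x, v, hv, u, hu, e⟩ := gauss_h R (G1_eq_top hp8 _) (coord hp8)
    (Cfsg.Agent.Nodes.ChevChart.irr_of Cfsg.Agent.Nodes.ChevChart.irr8)
    (Cfsg.Agent.H224.Ore.Row.not_mem_core (by norm_num) hS.1 p hp8 hg) (kap_mem K)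
  obtain ⟨vP, hvP, vL, hvL, rfl⟩ := exists_UNJ R (J := {k | k ∈ J7}) hv
  obtain ⟨uL, huL, uP, huP, rfl⟩ := (mem_U_iff R (J := {k | k ∈ J7})).1 hu
  obtain ⟨L, hL, rfl⟩ := (pc7 K).exists_lo sub7 hvL
  obtain ⟨U, hU, rfl⟩ := (pc7 K).exists_up sub7 huL
  have hDU : D8 K U⁻¹ ∈ UT 8 K := by
    have hU' := mem_UT.1 (inv_mem hU)
    refine mem_UT.2 ⟨fun i j hij => ?_, fun i => ?_⟩
    · rw [CD.Dg_apply, hU'.1 i j hij, mul_zero, zero_mul]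
    · rw [CD.Dg_apply, hU'.2 i, mul_one, sgn_sq]
  obtain ⟨M, hM0⟩ : ∃ M, M = L * D8 K U := ⟨_, rfl⟩
  have hMi : (Ri K M)⁻¹ = Ri K (D8 K U⁻¹ * L⁻¹) := by
    rw [Ri_inv, hM0, _root_.mul_inv_rev, map_inv]
  obtain ⟨S, Z, Y, c, d, hdec, hgd⟩ := CD.exists_cornerD h2 (sgn4_sq K) (Ri K M)
    (by rw [hMi]; exact corner_det (inv_mem hL) hDU) (by rw [hMi]; exact corner_ne (inv_mem hL) hDU h2)
  -- conjugation by `s`
  obtain ⟨s, hs⟩ : ∃ s, s = Ps K S := ⟨_, rfl⟩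
  have hsL : s ∈ LJ cs8 hp8.isCartan (TT chevE8 K) (XX chevE8 8 K) {k | k ∈ J7} := by
    rw [hs]; exact (pc7 K).mem _
  have hM : s * (p8 K L * kap K * p8 K U) * s⁻¹ =
      (Ps K (Cor.low Z))⁻¹ * (Ps K (Cor.dL c) * pb K d * kap K) * (Ps K (Cor.up Y))⁻¹ := by
    have h1 : p8 K L * kap K * p8 K U = Ps K (Ri K M) * kap K := by
      rw [Ps, MonoidHom.comp_apply, Re_Ri, hM0, map_mul, ← kap_p8]
      group
    have h3 := congrArg (Ps K) hdec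
    simp only [map_mul, map_inv] at h3
    rw [← kap_Ps, ← kap_Ps, Ps_dR, ← hs] at h3
    rw [h1]
    calc s * (Ps K (Ri K M) * kap K) * s⁻¹ = s * Ps K (Ri K M) * (kap K * s * (kap K)⁻¹)⁻¹ * kap K := by group
      _ = _ := by rw [h3]; group
  have hv1 : s * vP * s⁻¹ ∈ VNJ cs8 hp8.isCartan (XX chevE8 8 K) {k | k ∈ J7} :=
    (Subgroup.mem_normalizer_iff.1 (LJ_le_normalizer_VNJ R _ hsL) vP).1 hvP
  have hu1 : s * uP * s⁻¹ ∈ VJ cs8 hp8.isCartan (XX chevE8 8 K) {k | k ∈ J7} :=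
    (Subgroup.mem_normalizer_iff.1 (LJ_le_normalizer_VJ R _ hsL) uP).1 huP
  have hpaL : (pa K).range ≤ LJ cs8 hp8.isCartan (TT chevE8 K) (XX chevE8 8 K) {k | k ∈ JP} := by
    rintro _ ⟨A, rfl⟩
    exact (Pc.block (pa_tv K) rta.1 raP rta.2.2.2.1).mem A
  have hrow : (RowS K (fun i : Fin 5 => i ≠ 4)).map (pa K) ≤
      LJ cs8 hp8.isCartan (TT chevE8 K) (XX chevE8 8 K) {k | k ∈ JP} := by
    rintro _ ⟨A, -, rfl⟩
    exact hpaL ⟨A, rfl⟩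
  have hcol : (ColS K (fun i : Fin 5 => i ≠ 4)).map (pa K) ≤
      LJ cs8 hp8.isCartan (TT chevE8 K) (XX chevE8 8 K) {k | k ∈ JP} := by
    rintro _ ⟨A, -, rfl⟩
    exact hpaL ⟨A, rfl⟩
  obtain ⟨w, hw, _, ⟨L5, hL5, rfl⟩, ew⟩ : ∃ w ∈ VNJ cs8 hp8.isCartan (XX chevE8 8 K) {k | k ∈ JP},
      ∃ l ∈ (RowS K (fun i : Fin 5 => i ≠ 4)).map (pa K), s * vP * s⁻¹ = w * l := by
    have h1 : s * vP * s⁻¹ ∈ ((VNJ cs8 hp8.isCartan (XX chevE8 8 K) {k | k ∈ JP} ⊔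
      (RowS K (fun i : Fin 5 => i ≠ 4)).map (pa K) : Subgroup _) : Set _) := VN7_le' K hv1
    rw [Subgroup.coe_mul_of_right_le_normalizer_left _ _ (le_trans hrow (LJ_le_normalizer_VNJ R _)), Set.mem_mul] at h1
    obtain ⟨w, hw, l, hl, e⟩ := h1
    exact ⟨w, hw, l, hl, e.symm⟩
  obtain ⟨_, ⟨U5, hU5, rfl⟩, w', hw', ew'⟩ : ∃ l ∈ (ColS K (fun i : Fin 5 => i ≠ 4)).map (pa K),
      ∃ w ∈ VJ cs8 hp8.isCartan (XX chevE8 8 K) {k | k ∈ JP}, s * uP * s⁻¹ = l * w := by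
    have h1 : s * uP * s⁻¹ ∈ (((ColS K (fun i : Fin 5 => i ≠ 4)).map (pa K) ⊔
      VJ cs8 hp8.isCartan (XX chevE8 8 K) {k | k ∈ JP} : Subgroup _) : Set _) := V7_le' K hu1
    rw [Subgroup.coe_mul_of_left_le_normalizer_right _ _ (le_trans hcol (LJ_le_normalizer_VJ R _)), Set.mem_mul] at h1
    obtain ⟨l, hl, w, hw, e⟩ := h1
    exact ⟨l, hl, w, hw, e.symm⟩
  obtain ⟨C5, hC5m, hC5⟩ := Ps_dL' K c
  obtain ⟨z, hz⟩ : ∃ z, z = (Ps K (Cor.low Z))⁻¹ := ⟨_, rfl⟩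
  obtain ⟨y, hy⟩ : ∃ y, y = (Ps K (Cor.up Y))⁻¹ := ⟨_, rfl⟩
  have hzm : z ∈ VNJ cs8 hp8.isCartan (XX chevE8 8 K) {k | k ∈ JP} := by rw [hz]; exact inv_mem (Ps_low K Z)
  have hym : y ∈ VJ cs8 hp8.isCartan (XX chevE8 8 K) {k | k ∈ JP} := by rw [hy]; exact inv_mem (Ps_up K Y)
  rw [← hz, ← hy, ← hC5, ← pa_H] at hM
  obtain ⟨X5, Y5, hA, hX5, hY5⟩ := five' hK (L5 * C5 * Hm K * U5) (part_ne h2 hL5 hC5m hU5)
  obtain ⟨X4, Y4, hD, hX4, hY4⟩ := four' hK d hgd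
  obtain ⟨g5, hg5⟩ := hc5c X5 hX5
  obtain ⟨h5, hh5⟩ := hc5c Y5 hY5
  obtain ⟨g4, hg4⟩ := hc4c X4 hX4
  obtain ⟨h4, hh4⟩ := hc4c Y4 hY4
  have hcop : (∑ a ∈ Finset.range 5, Nat.card K ^ a).Coprime (Nat.card K ^ 4 - 1) := by rw [hK]; decide
  have hirr5 : Irreducible (H126.PwO.Five.pF K) := by
    have : Fact (Nat.Prime 3) := ⟨Nat.prime_three⟩
    obtain ⟨hch, -⟩ := H374.Ore.Sl3.exists_cast (K := K) hK
    exact H126.PwO.Five.pF_irr hK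
  have hirr4 : Irreducible (Four.pF K) := by
    have : Fact (Nat.Prime 3) := ⟨Nat.prime_three⟩
    obtain ⟨hch, -⟩ := H374.Ore.Sl3.exists_cast (K := K) hK
    exact Four.pF_irr hK
  have hn1 := nfP hcop (A := X5) (B := X4) (by rw [hX5]; exact hirr5) (by rw [hX4]; exact hirr4)
  have hn2 := nfP hcop (A := Y5) (B := Y4) (by rw [hY5]; exact hirr5) (by rw [hY4]; exact hirr4)
  have hm1 := (pcP K).mem (X5, X4)
  have hm2 := (pcP K).mem (Y5, Y4)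
  -- the two unipotent parts
  have hvv : w * (pa K L5 * z * (pa K L5)⁻¹) ∈ VNJ cs8 hp8.isCartan (XX chevE8 8 K) {k | k ∈ JP} :=
    mul_mem hw ((Subgroup.mem_normalizer_iff.1 (LJ_le_normalizer_VNJ R _ (hpaL ⟨L5, rfl⟩)) z).1 hzm)
  have huu : (pa K U5)⁻¹ * y * pa K U5 * w' ∈ VJ cs8 hp8.isCartan (XX chevE8 8 K) {k | k ∈ JP} := by
    refine mul_mem ?_ hw'
    have h1 := (Subgroup.mem_normalizer_iff.1 (LJ_le_normalizer_VJ R _ (inv_mem (hpaL ⟨U5, rfl⟩))) y).1 hym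
    rwa [inv_inv] at h1
  have hcom : pb K d * (pa K (Hm K) * pa K U5) = pa K (Hm K) * pa K U5 * pb K d := by
    rw [← map_mul]
    exact ((cab (Hm K * U5) d).eq).symm
  have hPh : PhP K (X5, X4) * PhP K (Y5, Y4) = pa K L5 * (pa K C5 * pb K d * pa K (Hm K)) * pa K U5 := by
    have h1 : pa K L5 * (pa K C5 * pb K d * pa K (Hm K)) * pa K U5 =
        pa K L5 * pa K C5 * (pb K d * (pa K (Hm K) * pa K U5)) := by group
    rw [h1, hcom, ← map_mul, Prod.mk_mul_mk, ← hA, ← hD, PhP, MonoidHom.noncommCoprod_apply]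
    change pa K (L5 * C5 * Hm K * U5) * pb K d = _
    rw [map_mul, map_mul, map_mul]
    group
  have etot : (s * x) * g * (s * x)⁻¹ = w * (pa K L5 * z * (pa K L5)⁻¹) * (PhP K (X5, X4) * PhP K (Y5, Y4)) *
      ((pa K U5)⁻¹ * y * pa K U5 * w') := by
    rw [hPh]
    calc (s * x) * g * (s * x)⁻¹ = s * (x * g * x⁻¹) * s⁻¹ := by group
      _ = (s * vP * s⁻¹) * (s * (p8 K L * pa K (Hm K) * p8 K U) * s⁻¹) * (s * uP * s⁻¹) := by rw [e, pa_H]; group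
      _ = w * pa K L5 * (z * (pa K C5 * pb K d * pa K (Hm K)) * y) * (pa K U5 * w') := by rw [ew, ew', hM]
      _ = _ := by group
  obtain ⟨a, ha, e1⟩ := exists_conj_of_fix R (LJ_le_normalizer_VNJ R _ hm1) hn1.2 hvv
  have huP' : PhP K (Y5, Y4) * ((pa K U5)⁻¹ * y * pa K U5 * w') * (PhP K (Y5, Y4))⁻¹ ∈
      VJ cs8 hp8.isCartan (XX chevE8 8 K) {k | k ∈ JP} :=
    (Subgroup.mem_normalizer_iff.1 (LJ_le_normalizer_VJ R _ hm2) _).1 huu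
  obtain ⟨b, hb, e2⟩ := exists_conj_of_fix R (LJ_le_normalizer_VJ R _ hm2) hn2.1 huP'
  have e3 : (s * x) * g * (s * x)⁻¹ = (a * PhP K (X5, X4) * a⁻¹) * (b * PhP K (Y5, Y4) * b⁻¹) := by
    rw [etot, ← e1, ← e2]
    group
  have hx1 : PhP K (X5, X4) = PhP K (g5, g4) * PhP K (c5, c4) * (PhP K (g5, g4))⁻¹ := by
    rw [← map_inv, ← map_mul, ← map_mul, hg5, hg4]
    rfl
  have hx2 : PhP K (Y5, Y4) = PhP K (h5, h4) * PhP K (c5, c4) * (PhP K (h5, h4))⁻¹ := by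
    rw [← map_inv, ← map_mul, ← map_mul, hh5, hh4]
    rfl
  refine ⟨(s * x)⁻¹ * a * PhP K (g5, g4), (s * x)⁻¹ * b * PhP K (h5, h4), ?_⟩
  calc g = (s * x)⁻¹ * ((s * x) * g * (s * x)⁻¹) * (s * x) := by group
    _ = _ := by rw [e3, hx1, hx2]; group

/-- **`E₈(3)`.** -/
theorem t6_E8_three (hK : Nat.card K = 3) : Cfsg.Agent.H777.T6.T6 ↥(chevE8.group K) := by
  obtain ⟨x, hx, h⟩ := fixedE hK
  have h1 : Nat.Coprime (orderOf x) 6 :=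
    Nat.Coprime.coprime_dvd_left (orderOf_dvd_of_pow_eq_one hx) (by norm_num)
  exact ⟨x, x, h1, h1, h⟩

end Cfsg.Agent.H122.SX
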