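import Cfsg.Agent.H122.SX.Two85
import Cfsg.Agent.H122.TC.Real
import Cfsg.Agent.H777.T6.Defs

/-!
# `E₈(2)` : every `g ≠ 1` is a product of two elements of one class of elements of order dividing `85` (helper122, S2464)

The block `SL_8(2)` of the Levi subgroup of type `A₇`; the class has order `85`, it is real in `E₈(2)`.
-/

set_option autoImplicit false
set_option linter.unusedSectionVars false

namespace Cfsg.Agent.H122.SX

open CoxeterSystem Cfsg.Agent.ChevalleyStructure.CoxeterGeom Cfsg.Agent.Tits.Roots Cfsg.Agent.Tits.Core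
  Cfsg.Agent.Nodes.Reps Cfsg.Agent.Nodes.BNOf Cfsg.Agent.Nodes.RGDLib Cfsg.Agent.Nodes.Bruhat
  Cfsg.Agent.Nodes.OppDec Cfsg.Agent.Nodes.LeviDec Cfsg.Agent.Nodes.KindChev Cfsg.Agent.Nodes.ChevCls
  Cfsg.Agent.OddHalf.NI.ModelChev Cfsg.Agent.Nodes.StabComb
  Cfsg.Agent.H162.GaussDec Cfsg.Agent.H162.GaussLevi Cfsg.Agent.H162.GaussSL Cfsg.Agent.H162.GaussMain
  Cfsg.Agent.H162.GaussExc
  Cfsg.Agent.H928.Ore.Frame Cfsg.Agent.H928.Ore.Fix Cfsg.Agent.H85.Ore Cfsg.Agent.H122.Ore.Blk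
open Cfsg.Lie Cfsg.Agent.ChevalleyStructure Cfsg.Agent.ChevalleyStructure.Elts
  Cfsg.Agent.ChevalleyStructure.RootVec Cfsg.Agent.ChevalleyStructure.NPerm
  Cfsg.Agent.ChevalleyStructure.CoxeterGeomTypes Cfsg.Agent.Nodes.RGDChev Cfsg.Agent.KFacts.RgdChevCoord

universe u

/-! ### The weights -/

/-- the exponent of a root -/
def ex85 (q : ℕ) : ℤ := ∑ b : Fin 8, (2 : ℤ) ^ (b : ℕ) * H482.Ore.Fix.wt chevE8 j8 q b

theorem ex85_ne : ∀ q < chevE8.nroots, (∃ k : Fin 8, k ∉ J8 ∧ vec chevE8 8 q k ≠ 0) → ex85 q % 85 ≠ 0 := by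
  intro q hq
  revert q
  refine @of_decide_eq_true _ ?_ ?_
  · refine @Nat.decidableBallLT _ _ fun q _ => ?_
    infer_instance
  · decide +kernel

theorem ne_one_85 {K' : Type*} [Field K'] {z : K'} (hz : orderOf z = 85) (hz0 : z ≠ 0) {q : ℕ} (hq : q < chevE8.nroots)
    (hk : ∃ k : Fin 8, k ∉ J8 ∧ vec chevE8 8 q k ≠ 0) :
    ∏ b : Fin 8, (z ^ (2 ^ (b : ℕ))) ^ H482.Ore.Fix.wt chevE8 j8 q b ≠ 1 := by
  have h1 : ∀ b : Fin 8, (z ^ (2 ^ (b : ℕ))) ^ H482.Ore.Fix.wt chevE8 j8 q b =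
      z ^ ((2 : ℤ) ^ (b : ℕ) * H482.Ore.Fix.wt chevE8 j8 q b) := by
    intro b
    rw [← zpow_natCast, ← zpow_mul]
    push_cast
    rfl
  rw [Finset.prod_congr rfl fun b _ => h1 b, prod_zpow' hz0]
  intro h2
  refine ex85_ne q hq hk (Int.emod_eq_zero_of_dvd ?_)
  obtain ⟨u, rfl⟩ : ∃ u : K'ˣ, (u : K') = z := ⟨Units.mk0 z hz0, rfl⟩
  have h3 : u ^ (ex85 q) = 1 := by
    apply Units.ext
    rw [Units.val_zpow_eq_zpow_val, Units.val_one]
    exact h2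
  have h4 := orderOf_dvd_iff_zpow_eq_one.2 h3
  rw [← orderOf_units, hz] at h4
  exact_mod_cast h4

/-! ### The frame -/

section

variable {D : ChevalleyDatum} {l : ℕ} {M : CoxeterMatrix (Fin l)} (hp : IsType D l M) {K : Type u} [Field K]

/-- **One real class in a block.** -/
theorem one_of_real [Finite K] (hl : 0 < l) (hG : IsSimpleGroup ↥(D.group K) ∧ ¬ IsMulCommutative ↥(D.group K))
    (hM : ∀ J : Finset (Fin l), J = ∅ ∨ J = Finset.univ ∨ ∃ a ∈ J, ∃ b, b ∉ J ∧ M a b ≠ 2) {J : Set (Fin l)} {n : ℕ}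
    {φ : Matrix.SpecialLinearGroup (Fin (n + 2)) K →* ↥(D.group K)}
    (hr : ∀ A, φ A ∈ LJ M.toCoxeterSystem hp.isCartan (TT D K) (XX D l K) J)
    (hU : UJ M.toCoxeterSystem hp.isCartan (XX D l K) J ≤ (UT (n + 2) K).map φ)
    (hUN : UNJ M.toCoxeterSystem hp.isCartan (XX D l K) J ≤ (LT (n + 2) K).map φ)
    {c : Matrix.SpecialLinearGroup (Fin (n + 2)) K}
    (hA : ∀ A : Matrix.SpecialLinearGroup (Fin (n + 2)) K, A ≠ 1 → ∃ g h, A = (g * c * g⁻¹) * (h * c * h⁻¹))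
    (hinv : ∃ t : ↥(D.group K), t * t = 1 ∧ t * φ c * t⁻¹ = (φ c)⁻¹)
    (hNF : NF (VJ M.toCoxeterSystem hp.isCartan (XX D l K) J) (φ c))
    (hNF' : NF (VNJ M.toCoxeterSystem hp.isCartan (XX D l K) J) (φ c)) :
    ∀ g : ↥(D.group K), g ≠ 1 → ∃ u v, g = (u * φ c * u⁻¹) * (v * φ c * v⁻¹) := by
  intro g₀ hg₀
  obtain ⟨p, hpc⟩ := CharP.exists K
  have : Fact p.Prime := ⟨(CharP.char_is_prime_or_zero K p).resolve_right (CharP.char_ne_zero_of_finite K p)⟩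
  have hW := finite_W hp M.toCoxeterSystem
  have : Nonempty (Fin l) := ⟨⟨0, hl⟩⟩
  have R := rgd (K := K) hp M.toCoxeterSystem p
  obtain ⟨t, ht, hti⟩ := hinv
  have hnf : ∀ g, NF (VJ M.toCoxeterSystem hp.isCartan (XX D l K) J) (φ (g * c * g⁻¹)) ∧
      NF (VNJ M.toCoxeterSystem hp.isCartan (XX D l K) J) (φ (g * c * g⁻¹)) := by
    intro g
    rw [map_mul, map_mul, map_inv]
    exact ⟨NF.conj (LJ_le_normalizer_VJ R J (hr g)) hNF, NF.conj (LJ_le_normalizer_VNJ R J (hr g)) hNF'⟩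
  obtain ⟨c₁, c₂, x, y, ⟨⟨z, hz⟩, w, hw⟩, e⟩ := pair R (G1_eq_top hp _)
    (coord hp) (Cfsg.Agent.Nodes.ChevChart.irr_of hM) (J := J)
    (Pr := fun c₁ c₂ : ↥(D.group K) => (∃ x, c₁ = x * φ c * x⁻¹) ∧ ∃ y, c₂ = y * φ c * y⁻¹) (g := g₀) (by
      intro v hv u hu
      obtain ⟨L, -, rfl⟩ := hUN hv
      obtain ⟨U, -, rfl⟩ := hU hu
      by_cases h1 : L * U = 1
      · refine ⟨φ c, (φ c)⁻¹, by rw [← map_mul, h1, map_one, mul_inv_cancel], ⟨hr _, inv_mem (hr _), hNF', NF.inv hNF⟩,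
          ⟨1, by group⟩, t, hti.symm⟩
      · obtain ⟨g, h, e⟩ := hA _ h1
        exact ⟨φ (g * c * g⁻¹), φ (h * c * h⁻¹), by rw [← map_mul, e, map_mul], ⟨hr _, hr _, (hnf g).2, (hnf h).1⟩,
          ⟨φ g, by rw [map_mul, map_mul, map_inv]⟩, φ h, by rw [map_mul, map_mul, map_inv]⟩)
    (fun h => hg₀ (one_of_core hp hl hG.1 h))
  refine ⟨x * z, y * w, ?_⟩
  rw [e, hz, hw]
  group

end

/-! ### `E₈(2)` -/

theorem fixedE2 {K : Type u} [Field K] (hK : Nat.card K = 2) : ∃ x : ↥(chevE8.group K), x ^ 85 = 1 ∧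
    ∀ g : ↥(chevE8.group K), g ≠ 1 → ∃ u v : ↥(chevE8.group K), g = (u * x * u⁻¹) * (v * x * v⁻¹) := by
  have : Finite K := Nat.finite_of_card_ne_zero (by rw [hK]; norm_num)
  have hc2 : CharP K 2 := by
    have : Fintype K := Fintype.ofFinite K
    exact charP_of_card_eq_prime (by rw [Fintype.card_eq_nat_card, hK])
  obtain ⟨φ, hφ⟩ := exists_phi8 K
  obtain ⟨c, hc, -, hA⟩ := E85.cert85 hK
  obtain ⟨L, _, _, i, z, hz, -, hd⟩ := E85.eig85 hK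
  obtain ⟨g, hg⟩ := hd _ hc
  obtain ⟨φ', hφ'⟩ := exists_phi8 L
  have : CharP L 2 := charP_of_injective_ringHom i.injective 2
  have : Fact (Nat.Prime 2) := ⟨Nat.prime_two⟩
  have hs : ∀ _ _ : Fin 8, (((-1 : ℤ) : K)) ≠ 0 := fun _ _ => by simp
  have B : H482.Ore.Fix.Bk Cfsg.Agent.Nodes.KindE.isType8 i {k | k ∈ J8} 6 r8 j8 φ φ' (fun _ _ => ((-1 : ℤ) : K)) :=
    { simp := ⟨r8_simple, r8_simple'⟩
      rlt := tab8.rlt
      rJ := tab8.rJ
      hφ := hφ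
      hφ' := fun a b hab c => by rw [hφ' a b hab c, map_intCast]
      ss := fun a => by norm_num }
  have hz0 : z ≠ 0 := by
    rintro rfl
    have h1 : orderOf (0 : L) = 0 := by
      rw [orderOf_eq_zero_iff']
      intro m hm
      rw [zero_pow hm.ne']
      exact zero_ne_one
    rw [h1] at hz
    norm_num at hz
  obtain ⟨n1, n2⟩ := H482.Ore.Fix.nf_block' Cfsg.Agent.Nodes.KindE.isType8 2 B hg
    (fun q hq hk => ne_one_85 hz hz0 hq hk)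
  have hc85 : c ^ 85 = 1 := by
    apply Subtype.ext
    change c.1 ^ 85 = 1
    obtain ⟨q, hq⟩ := E85.g8_dvd hK
    have h1 := congrArg (Polynomial.aeval c.1) hq
    rw [map_mul, ← hc, Matrix.aeval_self_charpoly, zero_mul, map_sub, map_pow, Polynomial.aeval_X, map_one,
      sub_eq_zero] at h1
    exact h1
  refine ⟨φ c, by rw [← map_pow, hc85, map_one], ?_⟩
  exact one_of_real Cfsg.Agent.Nodes.KindE.isType8 (by norm_num) (Cfsg.Agent.S1054.result chevE8 (by simp))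
    Cfsg.Agent.Nodes.ChevChart.irr8 (phi_mem Cfsg.Agent.Nodes.KindE.isType8 tab8 hφ)
    (UJ_le Cfsg.Agent.Nodes.KindE.isType8 tab8 (s := fun _ _ => ((-1 : ℤ) : K)) hs hφ)
    (UNJ_le Cfsg.Agent.Nodes.KindE.isType8 tab8 (s := fun _ _ => ((-1 : ℤ) : K)) hs hφ) hA
    (inv_of_irr Cfsg.Agent.Nodes.KindE.isType8 (rep_neg_of Cfsg.Agent.Nodes.KindE.isType8 frE8) (ε := -1) (by norm_num)
      (fun a b hab => tab8.rlt a b hab) (fun a b hab => rt8.2.2.2 a b hab) hφ (by rw [hc]; exact E85.irrg8 hK)) n1 n2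

/-- **`E₈(2)`.** -/
theorem t6_E8_two {K : Type u} [Field K] (hK : Nat.card K = 2) : Cfsg.Agent.H777.T6.T6 ↥(chevE8.group K) := by
  obtain ⟨x, hx, h⟩ := fixedE2 hK
  have h1 : Nat.Coprime (orderOf x) 6 :=
    Nat.Coprime.coprime_dvd_left (orderOf_dvd_of_pow_eq_one hx) (by norm_num)
  exact ⟨x, x, h1, h1, h⟩

end Cfsg.Agent.H122.SX
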